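/-
Transfer: from subgroups of an ambient group to `SL₂(F)`-modules.
-/
import Cfsg.Agent.Lib.BHS.SL2Core
import Cfsg.Prelude.Def_BaumannBlocks

set_option autoImplicit false
set_option linter.unusedSectionVars false
set_option linter.unusedVariables false

namespace Cfsg.Agent.Lib.BHS.SL2Transfer

open Matrix Cfsg.Agent.Lib.BHS.SL2Core

section

variable {F : Type*} [Field F] [Finite F] {p : ℕ} [hp : Fact p.Prime]

/-- `SL₂` is transitive on nonzero vectors: a matrix with given nonzero first column. -/
theorem exists_first_col (v : Fin 2 → F) (hv : v ≠ 0) :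
    ∃ δ : Matrix.SpecialLinearGroup (Fin 2) F, δ.1 0 0 = v 0 ∧ δ.1 1 0 = v 1 := by
  by_cases h0 : v 0 = 0
  · have h1 : v 1 ≠ 0 := by
      intro h1
      apply hv
      ext i
      fin_cases i
      · exact h0
      · exact h1
    refine ⟨⟨!![0, -(v 1)⁻¹; v 1, 0], by simp [Matrix.det_fin_two_of, h1]⟩, ?_, ?_⟩
    · simp [h0]
    · simp
  · refine ⟨⟨!![v 0, 0; v 1, (v 0)⁻¹], by simp [Matrix.det_fin_two_of, h0]⟩, ?_, ?_⟩
    · simp
    · simp

theorem exists_conj_le_upS (hchar : (p : F) = 0) (Q : Subgroup (Matrix.SpecialLinearGroup (Fin 2) F))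
    (hQ : IsPGroup p Q) :
    ∃ γ : Matrix.SpecialLinearGroup (Fin 2) F, ∀ q ∈ Q, γ * q * γ⁻¹ ∈ upS F := by
  classical
  have hMp : ∀ m : Fin 2 → F, p • m = 0 := by
    intro m
    ext i
    simp [nsmul_eq_mul, hchar]
  obtain ⟨v, hv, hfix⟩ := exists_fixed_mod (Q := Q) (M := Fin 2 → F) (p := p) hQ hMp ⊥
    (by
      intro q n hn
      rw [AddSubgroup.mem_bot] at hn ⊢
      rw [hn, smul_zero])
    (by
      intro h
      have : ((fun _ => 1) : Fin 2 → F) ∈ (⊥ : AddSubgroup (Fin 2 → F)) := by rw [h]; trivial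
      rw [AddSubgroup.mem_bot] at this
      have := congrFun this 0
      simp at this)
  have hv0 : v ≠ 0 := by simpa using hv
  obtain ⟨δ, hδ0, hδ1⟩ := exists_first_col v hv0
  have hδv : δ.1.mulVec ![1, 0] = v := by
    ext i
    fin_cases i
    · simp [Matrix.mulVec, dotProduct, Fin.sum_univ_two, hδ0]
    · simp [Matrix.mulVec, dotProduct, Fin.sum_univ_two, hδ1]
  refine ⟨δ⁻¹, ?_⟩
  intro q hq
  set q' := δ⁻¹ * q * δ⁻¹⁻¹ with hq'
  have hfixq : q • v = v := by
    have := hfix ⟨q, hq⟩
    rw [AddSubgroup.mem_bot, sub_eq_zero] at this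
    exact this
  have hδv' : δ • (![1, 0] : Fin 2 → F) = v := hδv
  have hq'e' : q' • (![1, 0] : Fin 2 → F) = ![1, 0] := by
    rw [hq', mul_smul, mul_smul, inv_inv, hδv', hfixq, inv_smul_eq_iff, hδv']
  have hq'e : q'.1.mulVec ![1, 0] = ![1, 0] := hq'e'
  have h00 : q'.1 0 0 = 1 := by
    have := congrFun hq'e 0
    simpa [Matrix.mulVec, dotProduct, Fin.sum_univ_two] using this
  have h10 : q'.1 1 0 = 0 := by
    have := congrFun hq'e 1
    simpa [Matrix.mulVec, dotProduct, Fin.sum_univ_two] using this
  have hdet : q'.1 0 0 * q'.1 1 1 - q'.1 0 1 * q'.1 1 0 = 1 := by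
    have := q'.2
    rwa [Matrix.det_fin_two] at this
  rw [h00, h10] at hdet
  have h11 : q'.1 1 1 = 1 := by simpa using hdet
  refine ⟨q'.1 0 1, ?_⟩
  apply ext2 <;> simp [h00, h10, h11]

end

section Transfer

open scoped commutatorElement

variable {X : Type*} [Group X] [Finite X] {p : ℕ} [hp : Fact p.Prime] (G V : Subgroup X)
  (F : Type*) [Field F] [Finite F]

/-- Normalize an isomorphism so that a given Sylow subgroup maps onto the upper unitriangular
group. -/
theorem exists_iso_sylow_eq_upS (hchar : (p : F) = 0)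
    (ι : G ≃* Matrix.SpecialLinearGroup (Fin 2) F) (S : Sylow p G) :
    ∃ ι' : G ≃* Matrix.SpecialLinearGroup (Fin 2) F, ∀ g : G, g ∈ S ↔ ι' g ∈ upS F := by
  classical
  obtain ⟨γ, hγ⟩ := exists_conj_le_upS (p := p) hchar ((S : Subgroup G).map ι.toMonoidHom)
    (S.isPGroup'.map _)
  let ι' : G ≃* Matrix.SpecialLinearGroup (Fin 2) F := ι.trans (MulAut.conj γ)
  have hι' : ∀ g, ι' g = γ * ι g * γ⁻¹ := fun g => rfl
  have hle : (S : Subgroup G) ≤ (upS F).comap ι'.toMonoidHom := by
    intro g hg
    change ι' g ∈ upS F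
    rw [hι']
    exact hγ _ ⟨g, hg, rfl⟩
  have hp' : IsPGroup p ((upS F).comap ι'.toMonoidHom) :=
    (upS_isPGroup hchar).comap_of_injective _ ι'.injective
  have heq := S.is_maximal' hp' hle
  refine ⟨ι', fun g => ?_⟩
  constructor
  · intro hg
    exact hle hg
  · intro hg
    change g ∈ (S : Subgroup G)
    rw [← heq]
    exact hg

theorem conj_mem (hGV : G ≤ Subgroup.normalizer (V : Set X)) (g : G) (v : V) :
    (g : X) * (v : X) * (g : X)⁻¹ ∈ V :=
  (Subgroup.mem_normalizer_iff.1 (hGV g.2) v).1 v.2

/-- The main transfer theorem. -/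
theorem main_transfer (hV : Cfsg.IsElementaryAbelian p V)
    (hGV : G ≤ Subgroup.normalizer (V : Set X)) (hchar : (p : F) = 0)
    (ι : G ≃* Matrix.SpecialLinearGroup (Fin 2) F) (S : Subgroup G)
    (hS : ∀ g : G, g ∈ S ↔ ι g ∈ upS F)
    (hirr : ∀ U : Subgroup X, U ≤ V → G ≤ Subgroup.normalizer (U : Set X) → U = ⊥ ∨ U = V)
    (hnt : ⁅V, G⁆ ≠ ⊥)
    (hyp : ⁅⁅V, S.map G.subtype⁆, S.map G.subtype⁆ = ⊥ ∨
      Nat.card ↥V ≤ Nat.card ↥(V ⊓ Subgroup.centralizer ((S.map G.subtype : Subgroup X) : Set X)) ^ 2) :
    Cfsg.ActsAsSL2OnSection F ⊤ G V ⊥ := by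
  classical
  have hcomm : ∀ a b : V, a * b = b * a := fun a b => by
    haveI := hV.1
    exact mul_comm' a b
  letI cg : CommGroup V := { (inferInstance : Group V) with mul_comm := hcomm }
  let c : G → V → V := fun g v => ⟨(g : X) * (v : X) * (g : X)⁻¹, conj_mem G V hGV g v⟩
  have hc : ∀ g v, ((c g v : V) : X) = (g : X) * (v : X) * (g : X)⁻¹ := fun _ _ => rfl
  letI act : DistribMulAction (Matrix.SpecialLinearGroup (Fin 2) F) (Additive V) :=
    { smul := fun γ v => Additive.ofMul (c (ι.symm γ) v.toMul)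
      one_smul := by
        intro v
        apply Additive.toMul.injective
        apply Subtype.ext
        change ((ι.symm 1 : G) : X) * _ * _⁻¹ = _
        simp
      mul_smul := by
        intro a b v
        apply Additive.toMul.injective
        apply Subtype.ext
        change ((ι.symm (a * b) : G) : X) * _ * ((ι.symm (a * b) : G) : X)⁻¹ =
          ((ι.symm a : G) : X) * (((ι.symm b : G) : X) * _ * ((ι.symm b : G) : X)⁻¹) *
            ((ι.symm a : G) : X)⁻¹
        simp only [map_mul, Subgroup.coe_mul]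
        group
      smul_zero := by
        intro a
        apply Additive.toMul.injective
        apply Subtype.ext
        change ((ι.symm a : G) : X) * 1 * ((ι.symm a : G) : X)⁻¹ = 1
        simp
      smul_add := by
        intro a x y
        apply Additive.toMul.injective
        apply Subtype.ext
        change ((ι.symm a : G) : X) * ((x.toMul : X) * (y.toMul : X)) * ((ι.symm a : G) : X)⁻¹ =
          (((ι.symm a : G) : X) * (x.toMul : X) * ((ι.symm a : G) : X)⁻¹) *
          (((ι.symm a : G) : X) * (y.toMul : X) * ((ι.symm a : G) : X)⁻¹)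
        group }
  have hact : ∀ (γ : Matrix.SpecialLinearGroup (Fin 2) F) (v : Additive V),
      (((γ • v : Additive V).toMul : V) : X) =
        ((ι.symm γ : G) : X) * ((v.toMul : V) : X) * ((ι.symm γ : G) : X)⁻¹ := fun _ _ => rfl
  have hactι : ∀ (g : G) (v : V), (ι g) • (Additive.ofMul v) = Additive.ofMul (c g v) := by
    intro g v
    apply Additive.toMul.injective
    apply Subtype.ext
    change ((ι.symm (ι g) : G) : X) * _ * ((ι.symm (ι g) : G) : X)⁻¹ = _
    simp [hc]
  have hMp : ∀ m : Additive V, p • m = 0 := by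
    intro m
    apply Additive.toMul.injective
    apply Subtype.ext
    have := hV.2 (m.toMul : V) (m.toMul : V).2
    simpa using this
  have H : Hyp F (Additive V) p :=
    { hchar := hchar
      hM := hMp
      hirr := by
        intro U hU
        let U' : Subgroup X := (AddSubgroup.toSubgroup' U).map V.subtype
        have memU' : ∀ x, x ∈ U' ↔ ∃ hx : x ∈ V, Additive.ofMul (⟨x, hx⟩ : V) ∈ U := by
          intro x
          constructor
          · rintro ⟨v, hv, rfl⟩
            exact ⟨v.2, hv⟩
          · rintro ⟨hx, h⟩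
            exact ⟨⟨x, hx⟩, h, rfl⟩
        have hle : U' ≤ V := by
          rintro x hx
          exact ((memU' x).1 hx).1
        have hinv : ∀ g : G, ∀ x ∈ U', (g : X) * x * (g : X)⁻¹ ∈ U' := by
          intro g x hx
          obtain ⟨hxV, hxU⟩ := (memU' x).1 hx
          have := hU (ι g) _ hxU
          rw [hactι] at this
          exact (memU' _).2 ⟨_, this⟩
        have hnorm : G ≤ Subgroup.normalizer (U' : Set X) := by
          intro g hg
          rw [Subgroup.mem_normalizer_iff]
          intro x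
          refine ⟨hinv ⟨g, hg⟩ x, fun h => ?_⟩
          have := hinv ⟨g⁻¹, G.inv_mem hg⟩ _ h
          simpa [mul_assoc] using this
        rcases hirr U' hle hnorm with h | h
        · left
          rw [eq_bot_iff]
          intro m hm
          have : ((m.toMul : V) : X) ∈ U' := (memU' _).2 ⟨(m.toMul : V).2, hm⟩
          rw [h, Subgroup.mem_bot] at this
          rw [AddSubgroup.mem_bot]
          apply Additive.toMul.injective
          apply Subtype.ext
          exact this
        · right
          rw [eq_top_iff]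
          intro m _
          have : ((m.toMul : V) : X) ∈ U' := by rw [h]; exact (m.toMul : V).2
          obtain ⟨_, h2⟩ := (memU' _).1 this
          exact h2
      hnt := by
        by_contra hcon
        push_neg at hcon
        apply hnt
        rw [eq_bot_iff, Subgroup.commutator_le]
        intro v hv g hg
        have := hcon (ι ⟨g, hg⟩) (Additive.ofMul ⟨v, hv⟩)
        rw [hactι] at this
        have h2 : ((Additive.toMul (Additive.ofMul (c ⟨g, hg⟩ ⟨v, hv⟩)) : V) : X) =
          ((Additive.toMul (Additive.ofMul (⟨v, hv⟩ : V)) : V) : X) := by rw [this]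
        change g * v * g⁻¹ = v at h2
        rw [Subgroup.mem_bot, commutatorElement_def]
        have : v * g * v⁻¹ * g⁻¹ = v * (g * v⁻¹ * g⁻¹) := by group
        rw [this]
        have h3 : g * v⁻¹ * g⁻¹ = v⁻¹ := by
          have : g * v⁻¹ * g⁻¹ = (g * v * g⁻¹)⁻¹ := by group
          rw [this, h2]
        rw [h3, mul_inv_cancel] }
  have hSU : ∀ b : F, ι.symm (eU b) ∈ S := fun b => (hS _).2 (by simpa using ⟨b, rfl⟩)
  have hdec : ∀ m : Additive V, ∃ m₀ ∈ M0 F (Additive V), ∃ m₁ ∈ M1 F (Additive V), m = m₀ + m₁ := by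
    rcases hyp with hyp | hyp
    · apply decomp_of_quadratic (p := p) H
      intro b c' m
      set s₁ : X := ((ι.symm (eU c') : G) : X) with hs₁
      set s₂ : X := ((ι.symm (eU b) : G) : X) with hs₂
      have hs₁S : s₁ ∈ S.map G.subtype := ⟨_, hSU c', rfl⟩
      have hs₂S : s₂ ∈ S.map G.subtype := ⟨_, hSU b, rfl⟩
      set v : X := ((m.toMul : V) : X) with hv
      have hvV : v ∈ V := (m.toMul : V).2
      set w : X := s₁ * v * s₁⁻¹ * v⁻¹ with hw
      have hw1 : w ∈ ⁅V, S.map G.subtype⁆ := by
        have h1 : ⁅v, s₁⁆ ∈ ⁅V, S.map G.subtype⁆ := Subgroup.commutator_mem_commutator hvV hs₁S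
        have h2 : w = s₁ * v * s₁⁻¹ * v⁻¹ := rfl
        have h3 : s₁ * v * s₁⁻¹ * v⁻¹ = ((s₁ * v * s₁⁻¹) * v⁻¹) := rfl
        -- `w = ⁅v, s₁⁆⁻¹` after commuting
        have h4 : w = ⁅v, s₁⁆⁻¹ := by
          rw [hw, commutatorElement_def]
          group
        rw [h4]
        exact Subgroup.inv_mem _ h1
      have hw2 : ⁅w, s₂⁆ = 1 := by
        have : ⁅w, s₂⁆ ∈ (⊥ : Subgroup X) := by
          rw [← hyp]
          exact Subgroup.commutator_mem_commutator hw1 hs₂S
        simpa using this
      have hw3 : s₂ * w * s₂⁻¹ = w := by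
        have h := hw2
        rw [commutatorElement_def] at h
        have h5 : w * s₂ * w⁻¹ * s₂⁻¹ = 1 → s₂ * w * s₂⁻¹ = w := by
          intro h6
          have h7 : w * s₂ = s₂ * w := by
            have := mul_inv_eq_one.1 h6
            exact mul_inv_eq_iff_eq_mul.1 this
          rw [← h7]; group
        exact h5 h
      apply Additive.toMul.injective
      apply Subtype.ext
      have hcoe : (((eU c' : Matrix.SpecialLinearGroup (Fin 2) F) • m - m).toMul : V) =
          Additive.toMul ((eU c' : Matrix.SpecialLinearGroup (Fin 2) F) • m) * (Additive.toMul m)⁻¹ := by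
        rw [sub_eq_add_neg]; rfl
      have hcoe2 : (((((eU c' : Matrix.SpecialLinearGroup (Fin 2) F) • m - m).toMul : V)) : X) = w := by
        rw [hcoe, Subgroup.coe_mul, hact, InvMemClass.coe_inv]
      rw [hact, hcoe2]
      exact hw3
    · apply decomp_of_card (p := p) H
      have hM0iff : ∀ m : Additive V, m ∈ M0 F (Additive V) ↔
          ∀ s ∈ S, (s : X) * ((m.toMul : V) : X) = ((m.toMul : V) : X) * (s : X) := by
        intro m
        constructor
        · intro hm s hs
          obtain ⟨b, hb⟩ := (hS s).1 hs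
          have h0 : (ι s) • m = m := by
            rw [← hb]
            exact hm b
          have h1 := hact (ι s) m
          rw [h0, MulEquiv.symm_apply_apply] at h1
          exact mul_inv_eq_iff_eq_mul.1 h1.symm
        · intro hm b
          apply Additive.toMul.injective
          apply Subtype.ext
          rw [hact, hm _ (hSU b)]
          group
      have : Nat.card (M0 F (Additive V)) =
          Nat.card ↥(V ⊓ Subgroup.centralizer ((S.map G.subtype : Subgroup X) : Set X)) := by
        refine Nat.card_congr ⟨fun m => ⟨((m.1.toMul : V) : X), Subgroup.mem_inf.2 ⟨(m.1.toMul : V).2, ?_⟩⟩,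
          fun x => ⟨Additive.ofMul ⟨x.1, (Subgroup.mem_inf.1 x.2).1⟩, ?_⟩, ?_, ?_⟩
        · rw [Subgroup.mem_centralizer_iff]
          rintro _ ⟨s, hs, rfl⟩
          exact (hM0iff m.1).1 m.2 s hs
        · rw [hM0iff]
          intro s hs
          have := (Subgroup.mem_inf.1 x.2).2
          rw [Subgroup.mem_centralizer_iff] at this
          exact this _ ⟨s, hs, rfl⟩
        · intro m
          rfl
        · intro x
          rfl
      rw [this]
      exact hyp
  obtain ⟨Ψ, hΨ⟩ := natural_of_decomp (p := p) H hdec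
  let ψ : V →* Multiplicative (Fin 2 → F) :=
    { toFun := fun v => Multiplicative.ofAdd (Ψ.symm (Additive.ofMul v))
      map_one' := by
        change Multiplicative.ofAdd (Ψ.symm 0) = 1
        rw [map_zero]
        rfl
      map_mul' := by
        intro a b
        change Multiplicative.ofAdd (Ψ.symm (Additive.ofMul a + Additive.ofMul b)) = _
        rw [map_add]
        rfl }
  have hψ : ∀ v : V, Multiplicative.toAdd (ψ v) = Ψ.symm (Additive.ofMul v) := fun _ => rfl
  refine ⟨hGV, bot_le, ι.toMonoidHom, ψ, ?_, ?_, ?_, ?_⟩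
  · exact MonoidHom.range_eq_top.2 ι.surjective
  · intro y
    refine ⟨Additive.toMul (Ψ (Multiplicative.toAdd y)), ?_⟩
    apply Multiplicative.toAdd.injective
    rw [hψ]
    simp
  · intro u
    rw [Subgroup.mem_bot]
    constructor
    · intro h
      have h1 : Multiplicative.toAdd (ψ u) = 0 := by rw [h]; rfl
      rw [hψ] at h1
      have h2 : Additive.ofMul u = 0 := by
        have := congrArg Ψ h1
        simpa using this
      have h3 : u = 1 := Additive.ofMul.injective h2
      rw [h3]
      rfl
    · intro h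
      have h3 : u = 1 := Subtype.ext h
      rw [h3, map_one]
  · intro e u
    refine ⟨c e u, rfl, ?_⟩
    rw [hψ, hψ]
    have h1 := hΨ (ι e) (Ψ.symm (Additive.ofMul u))
    rw [AddEquiv.apply_symm_apply, hactι] at h1
    rw [h1, AddEquiv.symm_apply_apply]
    rfl

end Transfer

end Cfsg.Agent.Lib.BHS.SL2Transfer
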