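/-
The natural `SL₂(F)`-module: elementary abelian `p`-groups of additive automorphisms normalizing `SL₂(F)`.
-/
import Cfsg.Agent.Lib.BHS.SL2Transfer

set_option autoImplicit false
set_option linter.unusedSectionVars false
set_option linter.unusedVariables false
set_option linter.unusedSimpArgs false

namespace Cfsg.Agent.Lib.BHS.NatSL2

open Matrix Cfsg.Agent.Lib.BHS.SL2Core Cfsg.Agent.Lib.BHS.SL2Transfer

/-- The group of additive automorphisms, written multiplicatively. -/
instance aaGroup (A : Type*) [AddCommGroup A] : Group (A ≃+ A) where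
  mul g h := AddEquiv.trans h g
  one := AddEquiv.refl A
  inv := AddEquiv.symm
  mul_assoc _ _ _ := rfl
  one_mul _ := rfl
  mul_one _ := rfl
  inv_mul_cancel f := by
    apply AddEquiv.ext
    intro v
    exact f.symm_apply_apply v

theorem aa_mul_apply {A : Type*} [AddCommGroup A] (x y : A ≃+ A) (v : A) : (x * y) v = x (y v) := rfl

theorem aa_one_apply {A : Type*} [AddCommGroup A] (v : A) : (1 : A ≃+ A) v = v := rfl

theorem aa_inv_apply {A : Type*} [AddCommGroup A] (x : A ≃+ A) (v : A) : x⁻¹ v = x.symm v := rfl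

instance aaAct (A : Type*) [AddCommGroup A] : DistribMulAction (A ≃+ A) A where
  smul x v := x v
  one_smul _ := rfl
  mul_smul _ _ _ := rfl
  smul_zero x := map_zero x
  smul_add x := map_add x

theorem aa_smul {A : Type*} [AddCommGroup A] (x : A ≃+ A) (v : A) : x • v = x v := rfl

instance aaFinite (A : Type*) [AddCommGroup A] [Finite A] : Finite (A ≃+ A) :=
  Finite.of_injective (fun x : A ≃+ A => (x : A → A)) (fun a b h => AddEquiv.ext (congrFun h))

/-- The common fixed vectors. -/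
def fixA {A : Type*} [AddCommGroup A] (𝒳 : Subgroup (A ≃+ A)) : AddSubgroup A where
  carrier := {v | ∀ x ∈ 𝒳, x v = v}
  zero_mem' := fun x _ => map_zero x
  add_mem' := by
    intro a b ha hb x hx
    rw [map_add, ha x hx, hb x hx]
  neg_mem' := by
    intro a ha x hx
    rw [map_neg, ha x hx]

theorem mem_fixA {A : Type*} [AddCommGroup A] {𝒳 : Subgroup (A ≃+ A)} {v : A} :
    v ∈ fixA 𝒳 ↔ ∀ x ∈ 𝒳, x v = v := Iff.rfl

variable {F : Type*} [Field F]

local notation "SL₂F" => Matrix.SpecialLinearGroup (Fin 2) F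

/-- The determinant form. -/
def dd (u v : Fin 2 → F) : F := u 0 * v 1 - u 1 * v 0

theorem dd_expand (u v w : Fin 2 → F) : dd v w • u = dd u w • v + dd v u • w := by
  ext i
  fin_cases i <;> simp [dd] <;> ring

theorem dd_self (u : Fin 2 → F) : dd u u = 0 := by
  simp [dd, mul_comm]

theorem dd_smul_right (l : F) (u v : Fin 2 → F) : dd u (l • v) = l * dd u v := by
  simp [dd]
  ring

theorem dd_smul_left (l : F) (u v : Fin 2 → F) : dd (l • u) v = l * dd u v := by
  simp [dd]
  ring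

theorem dd_add_right (u v w : Fin 2 → F) : dd u (v + w) = dd u v + dd u w := by
  simp [dd]
  ring

theorem dd_add_left (u v w : Fin 2 → F) : dd (u + v) w = dd u w + dd v w := by
  simp [dd]
  ring

theorem dd_comm (u v : Fin 2 → F) : dd u v = - dd v u := by
  simp [dd]
  ring

theorem mulVec2 (e : Matrix (Fin 2) (Fin 2) F) (a b : F) :
    e.mulVec ![a, b] = ![e 0 0 * a + e 0 1 * b, e 1 0 * a + e 1 1 * b] := by
  ext i
  fin_cases i <;> simp [Matrix.mulVec, dotProduct, Fin.sum_univ_two]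

/-- Schur's lemma for the natural module. -/
theorem schur (φ : (Fin 2 → F) →+ (Fin 2 → F))
    (h : ∀ (e : SL₂F) (v : Fin 2 → F), φ (e.1.mulVec v) = e.1.mulVec (φ v)) :
    ∃ l : F, ∀ v, φ v = l • v := by
  have hv : ∀ v : Fin 2 → F, v = ![v 0, v 1] := fun v => by
    ext i
    fin_cases i <;> rfl
  have h1 : φ ![1, 0] 1 = 0 := by
    have h2 := h (eU 1) ![1, 0]
    have h3 : (eU (1 : F) : SL₂F).1.mulVec ![1, 0] = ![1, 0] := by
      rw [mulVec2]
      simp
    rw [h3, hv (φ ![1, 0]), mulVec2] at h2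
    have h4 := congrFun h2 0
    simpa using h4
  set l := φ ![1, 0] 0 with hl
  have h5 : φ ![1, 0] = ![l, 0] := by
    rw [hv (φ ![1, 0]), h1]
  have h6 : ∀ a : F, φ ![a, 0] = ![a * l, 0] := by
    intro a
    by_cases ha : a = 0
    · subst ha
      have : (![0, 0] : Fin 2 → F) = 0 := by
        ext i
        fin_cases i <;> rfl
      simp [this]
    · have h7 := h (dT a⁻¹ (inv_ne_zero ha)) ![1, 0]
      rw [h5, dT_coe, mulVec2, mulVec2] at h7
      simpa using h7
  have h8 : φ ![0, -1] = ![0, -l] := by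
    have h7 := h wW ![1, 0]
    rw [h5, wW_coe, mulVec2, mulVec2] at h7
    simpa using h7
  have h9 : ∀ a : F, φ ![0, a] = ![0, a * l] := by
    intro a
    by_cases ha : a = 0
    · subst ha
      have : (![0, 0] : Fin 2 → F) = 0 := by
        ext i
        fin_cases i <;> rfl
      simp [this]
    · have h7 := h (dT (-a) (neg_ne_zero.2 ha)) ![0, -1]
      rw [h8, dT_coe, mulVec2, mulVec2] at h7
      simpa using h7
  refine ⟨l, fun v => ?_⟩
  have h10 : v = ![v 0, 0] + ![0, v 1] := by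
    ext i
    fin_cases i <;> simp
  rw [h10, map_add, h6, h9]
  ext i
  fin_cases i <;> simp [mul_comm]

/-- The scalars are permuted by an additive automorphism normalizing `SL₂(F)`. -/
theorem exists_sigma (x : (Fin 2 → F) ≃+ (Fin 2 → F))
    (hn' : ∀ e' : SL₂F, ∃ e : SL₂F, ∀ v, x (e.1.mulVec v) = e'.1.mulVec (x v)) :
    ∃ σ : F →+* F, ∀ (l : F) (v : Fin 2 → F), x (l • v) = σ l • x v := by
  classical
  have hcomm : ∀ l : F, ∃ m : F, ∀ v : Fin 2 → F, x (l • x.symm v) = m • v := by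
    intro l
    let φ : (Fin 2 → F) →+ (Fin 2 → F) :=
      { toFun := fun v => x (l • x.symm v)
        map_zero' := by simp
        map_add' := fun a b => by simp [smul_add] }
    apply schur φ
    intro e' v
    obtain ⟨e, he⟩ := hn' e'
    show x (l • x.symm (e'.1.mulVec v)) = e'.1.mulVec (x (l • x.symm v))
    have h1 : x.symm (e'.1.mulVec v) = e.1.mulVec (x.symm v) := by
      rw [AddEquiv.symm_apply_eq, he, AddEquiv.apply_symm_apply]
    rw [h1, ← he, Matrix.mulVec_smul]
  choose σ hσ using hcomm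
  have hσ' : ∀ (l : F) (u : Fin 2 → F), x (l • u) = σ l • x u := by
    intro l u
    have := hσ l (x u)
    rwa [AddEquiv.symm_apply_apply] at this
  have hne : x ![1, 0] ≠ 0 := by
    intro h
    have h1 : (![1, 0] : Fin 2 → F) = 0 := x.injective (by rw [h, map_zero])
    have h2 := congrFun h1 0
    simp at h2
  have hinj : ∀ a b : F, a • x ![1, 0] = b • x ![1, 0] → a = b := fun a b h =>
    smul_left_injective F hne h
  refine ⟨{ toFun := σ, map_one' := ?_, map_mul' := ?_, map_zero' := ?_, map_add' := ?_ }, hσ'⟩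
  · apply hinj
    rw [← hσ', one_smul, one_smul]
  · intro a b
    apply hinj
    rw [← hσ', mul_smul, hσ', hσ', mul_smul]
  · apply hinj
    rw [← hσ', zero_smul, map_zero, zero_smul]
  · intro a b
    apply hinj
    rw [← hσ', add_smul, map_add, hσ', hσ', add_smul]

section bounds

variable [Finite F] (σ : F →+* F)

/-- The order of the fixed field. -/
noncomputable def sFix : ℕ := Nat.card {a : F // σ a = a}

theorem sFix_pos : 1 ≤ sFix σ := by
  unfold sFix
  exact Nat.card_pos_iff.2 ⟨⟨⟨0, map_zero σ⟩⟩, inferInstance⟩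

theorem sFix_sq_le {y : F} (hy : σ y ≠ y) : sFix σ * sFix σ ≤ Nat.card F := by
  unfold sFix
  rw [← Nat.card_prod]
  refine Nat.card_le_card_of_injective (fun a => (a.1 : F) + a.2 * y) ?_
  rintro ⟨⟨a, ha⟩, ⟨b, hb⟩⟩ ⟨⟨c, hc⟩, ⟨d, hd⟩⟩ h
  simp only at h
  have h1 := congrArg σ h
  simp only [map_add, map_mul, ha, hb, hc, hd] at h1
  have h2 : (b - d) * (y - σ y) = 0 := by
    linear_combination h - h1
  have h3 : y - σ y ≠ 0 := sub_ne_zero.2 (Ne.symm hy)
  have h4 : b = d := sub_eq_zero.1 ((mul_eq_zero.1 h2).resolve_right h3)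
  subst h4
  have h5 : a = c := add_right_cancel h
  subst h5
  rfl

theorem sol_le (κ : F) : Nat.card {a : F // κ * σ a = a} ≤ sFix σ := by
  classical
  by_cases hex : ∃ a₀ : F, a₀ ≠ 0 ∧ κ * σ a₀ = a₀
  · obtain ⟨a₀, ha₀, h₀⟩ := hex
    have hκ : κ ≠ 0 := by
      rintro rfl
      rw [zero_mul] at h₀
      exact ha₀ h₀.symm
    have hs₀ : σ a₀ ≠ 0 := by
      intro h
      rw [h, mul_zero] at h₀
      exact ha₀ h₀.symm
    unfold sFix
    refine Nat.card_le_card_of_injective (fun a => ⟨a.1 / a₀, ?_⟩) ?_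
    · rw [map_div₀]
      have h1 := a.2
      have h2 : σ a.1 = a.1 / κ := by
        field_simp
        linear_combination h1
      have h3 : σ a₀ = a₀ / κ := by
        field_simp
        linear_combination h₀
      rw [h2, h3]
      field_simp
    · rintro ⟨a, ha⟩ ⟨b, hb⟩ h
      have h1 : a / a₀ = b / a₀ := congrArg Subtype.val h
      have h2 : a = b := by
        field_simp at h1
        exact h1
      exact Subtype.ext h2
  · push_neg at hex
    have h1 : Subsingleton {a : F // κ * σ a = a} := by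
      refine ⟨fun a b => Subtype.ext ?_⟩
      have ha : a.1 = 0 := by
        by_contra h
        exact hex a.1 h a.2
      have hb : b.1 = 0 := by
        by_contra h
        exact hex b.1 h b.2
      rw [ha, hb]
    calc Nat.card {a : F // κ * σ a = a} ≤ 1 := Finite.card_le_one_iff_subsingleton.2 h1
      _ ≤ sFix σ := sFix_pos σ

theorem exists_dd_one {u : Fin 2 → F} (hu : u ≠ 0) : ∃ w : Fin 2 → F, dd u w = 1 := by
  by_cases h0 : u 0 = 0
  · have h1 : u 1 ≠ 0 := by
      intro h1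
      apply hu
      ext i
      fin_cases i
      · exact h0
      · exact h1
    refine ⟨![-(u 1)⁻¹, 0], ?_⟩
    simp [dd, h0, h1]
  · refine ⟨![0, (u 0)⁻¹], ?_⟩
    simp [dd, h0]

theorem smul_vec_injective {u : Fin 2 → F} (hu : u ≠ 0) {a b : F} (h : a • u = b • u) : a = b :=
  smul_left_injective F hu h

/-- The fixed points of a semilinear map. -/
theorem fix_two (x : (Fin 2 → F) ≃+ (Fin 2 → F)) (hx : ∀ (l : F) (v : Fin 2 → F), x (l • v) = σ l • x v) :
    Nat.card {v : Fin 2 → F // x v = v} ≤ sFix σ * sFix σ := by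
  classical
  by_cases hex : ∃ u v : Fin 2 → F, x u = u ∧ x v = v ∧ dd u v ≠ 0
  · obtain ⟨u, v, hu, hv, hδ⟩ := hex
    set δ := dd u v with hδ'
    unfold sFix
    rw [← Nat.card_prod]
    have hw : ∀ w : Fin 2 → F, w = (dd w v / δ) • u + (dd u w / δ) • v := by
      intro w
      have h1 := dd_expand w u v
      have h2 : δ⁻¹ • (δ • w) = w := by
        rw [smul_smul, inv_mul_cancel₀ hδ, one_smul]
      have h3 : δ • w = dd w v • u + dd u w • v := h1
      calc w = δ⁻¹ • (δ • w) := h2.symm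
        _ = _ := by rw [h3, smul_add, smul_smul, smul_smul, div_eq_inv_mul, div_eq_inv_mul]
    have hfix : ∀ w : Fin 2 → F, x w = w → σ (dd w v / δ) = dd w v / δ ∧ σ (dd u w / δ) = dd u w / δ := by
      intro w hw'
      set α := dd w v / δ with hα
      set β := dd u w / δ with hβ
      have h1 : w = α • u + β • v := hw w
      have h2 : σ α • u + σ β • v = α • u + β • v := by
        have h3 := hw'
        rw [h1, map_add, hx, hx, hu, hv] at h3
        exact h3
      constructor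
      · have h3 := congrArg (fun t => dd t v) h2
        simp only [dd_add_left, dd_smul_left, dd_self, mul_zero, add_zero] at h3
        exact mul_right_cancel₀ hδ h3
      · have h3 := congrArg (fun t => dd u t) h2
        simp only [dd_add_right, dd_smul_right, dd_self, mul_zero, zero_add] at h3
        exact mul_right_cancel₀ hδ h3
    refine Nat.card_le_card_of_injective
      (fun w => (⟨dd w.1 v / δ, (hfix w.1 w.2).1⟩, ⟨dd u w.1 / δ, (hfix w.1 w.2).2⟩)) ?_
    rintro ⟨w₁, h₁⟩ ⟨w₂, h₂⟩ h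
    have h3 := congrArg (fun t => t.1.1) h
    have h4 := congrArg (fun t => t.2.1) h
    simp only at h3 h4
    apply Subtype.ext
    show w₁ = w₂
    rw [hw w₁, hw w₂, h3, h4]
  · push_neg at hex
    by_cases hne : ∃ u : Fin 2 → F, x u = u ∧ u ≠ 0
    · obtain ⟨u, hu, hu0⟩ := hne
      obtain ⟨v', hv'⟩ := exists_dd_one hu0
      have hw : ∀ w : Fin 2 → F, x w = w → w = dd w v' • u := by
        intro w hw'
        have h1 := dd_expand w u v'
        rw [hv', one_smul, hex u w hu hw', zero_smul, add_zero] at h1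
        exact h1
      have hfix : ∀ w : Fin 2 → F, x w = w → σ (dd w v') = dd w v' := by
        intro w hw'
        have h1 := hw w hw'
        have h2 := hw'
        rw [h1, hx, hu] at h2
        exact smul_vec_injective hu0 h2
      calc Nat.card {v : Fin 2 → F // x v = v} ≤ sFix σ := by
            unfold sFix
            refine Nat.card_le_card_of_injective (fun w => ⟨dd w.1 v', hfix w.1 w.2⟩) ?_
            rintro ⟨w₁, h₁⟩ ⟨w₂, h₂⟩ h
            have h3 : dd w₁ v' = dd w₂ v' := congrArg Subtype.val h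
            apply Subtype.ext
            show w₁ = w₂
            rw [hw w₁ h₁, hw w₂ h₂, h3]
        _ ≤ sFix σ * sFix σ := Nat.le_mul_of_pos_right _ (sFix_pos σ)
    · push_neg at hne
      have h1 : Subsingleton {v : Fin 2 → F // x v = v} := by
        refine ⟨fun a b => Subtype.ext ?_⟩
        rw [hne a.1 a.2, hne b.1 b.2]
      calc Nat.card {v : Fin 2 → F // x v = v} ≤ 1 := Finite.card_le_one_iff_subsingleton.2 h1
        _ ≤ sFix σ * sFix σ := Nat.mul_pos (sFix_pos σ) (sFix_pos σ)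

end bounds

/-- Linear additive automorphisms. -/
def IsLin (x : (Fin 2 → F) ≃+ (Fin 2 → F)) : Prop := ∀ (l : F) (v : Fin 2 → F), x (l • v) = l • x v

theorem pow_succ_app {A : Type*} [AddCommGroup A] (x : A ≃+ A) (k : ℕ) (v : A) :
    (x ^ (k + 1)) v = x ((x ^ k) v) := by
  rw [pow_succ']
  rfl

section linear

variable [Finite F] {p : ℕ} [hp : Fact p.Prime]

theorem charP_of (hchar : (p : F) = 0) : CharP F p := by
  have h1 : ringChar F ∣ p := ringChar.dvd hchar
  have h2 : ringChar F = p := by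
    rcases (Nat.dvd_prime hp.out).1 h1 with h | h
    · exact absurd h (CharP.ringChar_ne_one)
    · exact h
  rw [← h2]
  exact ringChar.charP F

theorem eq_one_of_pow (hchar : (p : F) = 0) {b : F} (h : b ^ p = 1) : b = 1 := by
  haveI := charP_of (F := F) hchar
  apply frobenius_inj F p
  simp [frobenius_def, h]

theorem smul_p_eq_zero (hchar : (p : F) = 0) (m : Fin 2 → F) : p • m = 0 := by
  ext i
  simp [hchar]

theorem lin_fixed (hchar : (p : F) = 0) (x₀ : (Fin 2 → F) ≃+ (Fin 2 → F)) (hexp : x₀ ^ p = 1) :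
    ∃ v : Fin 2 → F, v ≠ 0 ∧ x₀ v = v := by
  classical
  have hpg : IsPGroup p (Subgroup.zpowers x₀) := by
    rw [IsPGroup.iff_card]
    rw [Nat.card_zpowers]
    have h1 := orderOf_dvd_of_pow_eq_one hexp
    rcases (Nat.dvd_prime hp.out).1 h1 with h | h
    · exact ⟨0, by simpa using h⟩
    · exact ⟨1, by simpa using h⟩
  obtain ⟨m, hm, hq⟩ := exists_fixed_mod (Q := Subgroup.zpowers x₀) (M := Fin 2 → F) hpg
    (smul_p_eq_zero hchar) ⊥ (fun q n hn => by
      rw [AddSubgroup.mem_bot] at hn ⊢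
      rw [hn, smul_zero]) (by
      intro h
      have h1 : (![1, 0] : Fin 2 → F) ∈ (⊥ : AddSubgroup (Fin 2 → F)) := by
        rw [h]
        trivial
      rw [AddSubgroup.mem_bot] at h1
      have h2 := congrFun h1 0
      simp at h2)
  refine ⟨m, fun h => hm (by rw [h]; exact AddSubgroup.zero_mem _), ?_⟩
  have h1 := hq ⟨x₀, Subgroup.mem_zpowers x₀⟩
  rw [AddSubgroup.mem_bot, sub_eq_zero] at h1
  exact h1

/-- A nontrivial linear map fixes at most a line. -/
theorem lin_line {x₀ : (Fin 2 → F) ≃+ (Fin 2 → F)} (hlin : IsLin x₀) (hne : x₀ ≠ 1) {v : Fin 2 → F}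
    (hv0 : v ≠ 0) (hv : x₀ v = v) {u : Fin 2 → F} (hu : x₀ u = u) : dd v u = 0 := by
  by_contra hδ
  apply hne
  ext y i
  have h1 := dd_expand y v u
  have h2 : dd v u • x₀ y = dd v u • y := by
    rw [← hlin, h1, map_add, hlin, hlin, hv, hu]
  have h3 := smul_right_injective (Fin 2 → F) hδ h2
  rw [h3]
  rfl

theorem eq_smul_of_dd {v w u : Fin 2 → F} (hvw : dd v w = 1) (h : dd v u = 0) : u = dd u w • v := by
  have h1 := dd_expand u v w
  rw [hvw, one_smul, h, zero_smul, add_zero] at h1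
  exact h1

/-- The scalar by which a linear element of exponent `p` acts on an invariant line is one. -/
theorem scalar_eq_one (hchar : (p : F) = 0) {x : (Fin 2 → F) ≃+ (Fin 2 → F)} (hlin : IsLin x) (hexp : x ^ p = 1)
    {v : Fin 2 → F} (hv0 : v ≠ 0) {μ : F} (hv : x v = μ • v) : μ = 1 := by
  have h1 : ∀ k : ℕ, (x ^ k) v = μ ^ k • v := by
    intro k
    induction k with
    | zero => simp [aa_one_apply]
    | succ k ih =>
      rw [pow_succ_app, ih, hlin, hv, smul_smul, pow_succ]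
  have h2 := h1 p
  rw [hexp] at h2
  have h3 : (1 : F) • v = μ ^ p • v := by
    rw [one_smul]
    exact h2
  exact eq_one_of_pow hchar (smul_left_injective F hv0 h3).symm

/-- The shape of a linear element of exponent `p` fixing a vector. -/
theorem unip (hchar : (p : F) = 0) {x : (Fin 2 → F) ≃+ (Fin 2 → F)} (hlin : IsLin x) (hexp : x ^ p = 1)
    {v w : Fin 2 → F} (hvw : dd v w = 1) (hv : x v = v) (u : Fin 2 → F) :
    x u = u + (dd v u * dd (x w) w) • v := by
  have hβ : dd v (x w) = 1 := by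
    set β := dd v (x w) with hβ'
    obtain ⟨α, h0⟩ : ∃ α : F, x w = α • v + β • w := by
      refine ⟨dd (x w) w, ?_⟩
      have := dd_expand (x w) v w
      rwa [hvw, one_smul] at this
    have h1 : ∀ k : ℕ, ∃ γ : F, (x ^ k) w = γ • v + β ^ k • w := by
      intro k
      induction k with
      | zero => exact ⟨0, by simp [aa_one_apply]⟩
      | succ k ih =>
        obtain ⟨γ, hγ⟩ := ih
        refine ⟨γ + β ^ k * α, ?_⟩
        rw [pow_succ_app, hγ, map_add, hlin, hlin, hv, h0, smul_add, smul_smul, smul_smul, add_smul,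
          pow_succ, add_assoc]
    obtain ⟨γ, hγ⟩ := h1 p
    rw [hexp] at hγ
    have h2 := congrArg (fun t => dd v t) hγ
    simp only [dd_add_right, dd_smul_right, dd_self, mul_zero, zero_add, hvw, mul_one] at h2
    have h3 : dd v ((1 : (Fin 2 → F) ≃+ (Fin 2 → F)) w) = 1 := hvw
    rw [h3] at h2
    exact eq_one_of_pow hchar h2.symm
  set α := dd (x w) w with hα
  have h0 : x w = α • v + w := by
    have := dd_expand (x w) v w
    rwa [hvw, one_smul, hβ, one_smul] at this
  have h1 := dd_expand u v w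
  rw [hvw, one_smul] at h1
  have h3 : x u = dd u w • v + dd v u • (x w) := by
    conv_lhs => rw [h1, map_add, hlin, hlin, hv]
  calc x u = dd u w • v + dd v u • (α • v + w) := by rw [h3, h0]
    _ = (dd u w • v + dd v u • w) + (dd v u * α) • v := by
      rw [smul_add, smul_smul]
      abel
    _ = u + (dd v u * α) • v := by rw [← h1]

end linear

section main

variable [Finite F] {p n : ℕ} [hp : Fact p.Prime]

theorem card_n2 : Nat.card (Fin 2 → F) = Nat.card F ^ 2 := by
  rw [Nat.card_fun]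
  simp

theorem conj_eU_apply (c : SL₂F) (l : F) (u : Fin 2 → F) :
    (c * eU l * c⁻¹ : SL₂F).1.mulVec u = u + (dd ![c.1 0 0, c.1 1 0] u * l) • ![c.1 0 0, c.1 1 0] := by
  have hdet : c.1 0 0 * c.1 1 1 - c.1 0 1 * c.1 1 0 = 1 := by
    have := c.2
    rwa [Matrix.det_fin_two] at this
  have hcoe : (c * eU l * c⁻¹ : SL₂F).1 = c.1 * !![1, l; 0, 1] * !![c.1 1 1, -c.1 0 1; -c.1 1 0, c.1 0 0] := by
    rw [Matrix.SpecialLinearGroup.SL2_inv_expl]
    rfl
  rw [hcoe]
  ext i
  fin_cases i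
  · simp [Matrix.mul_apply, Matrix.mulVec, dotProduct, Fin.sum_univ_two, dd]
    linear_combination u 0 * hdet
  · simp [Matrix.mul_apply, Matrix.mulVec, dotProduct, Fin.sum_univ_two, dd]
    linear_combination u 1 * hdet

theorem case_lin (hchar : (p : F) = 0) (𝒳 : Subgroup ((Fin 2 → F) ≃+ (Fin 2 → F)))
    (hcomm : ∀ x ∈ 𝒳, ∀ y ∈ 𝒳, x * y = y * x) (hexp : ∀ x ∈ 𝒳, x ^ p = 1)
    (hlin : ∀ x ∈ 𝒳, IsLin x) :
    Nat.card 𝒳 * Nat.card (fixA 𝒳) ≤ Nat.card F ^ 2 ∧
      (Nat.card 𝒳 * Nat.card (fixA 𝒳) = Nat.card F ^ 2 →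
        (∀ x ∈ 𝒳, ∃ e : SL₂F, ∀ v, x v = e.1.mulVec v) ∧
        (𝒳 ≠ ⊥ → ∃ c : SL₂F, ∀ l : F, ∃ x ∈ 𝒳, ∀ v, x v = (c * eU l * c⁻¹ : SL₂F).1.mulVec v)) := by
  classical
  by_cases hb : 𝒳 = ⊥
  · subst hb
    have h1 : fixA (⊥ : Subgroup ((Fin 2 → F) ≃+ (Fin 2 → F))) = ⊤ := by
      rw [eq_top_iff]
      intro v _ x hx
      rw [Subgroup.mem_bot] at hx
      rw [hx]
      rfl
    rw [h1, Subgroup.card_bot, AddSubgroup.card_top, card_n2, one_mul]
    refine ⟨le_refl _, fun _ => ⟨fun x hx => ⟨1, fun v => ?_⟩, fun h => absurd rfl h⟩⟩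
    rw [Subgroup.mem_bot] at hx
    rw [hx]
    simp [aa_one_apply]
  · obtain ⟨x₀, hx₀, hne⟩ : ∃ x₀ ∈ 𝒳, x₀ ≠ 1 := by
      obtain ⟨y, hy⟩ := (Subgroup.ne_bot_iff_exists_ne_one).1 hb
      exact ⟨y.1, y.2, fun h => hy (Subtype.ext h)⟩
    obtain ⟨v, hv0, hv⟩ := lin_fixed hchar x₀ (hexp x₀ hx₀)
    obtain ⟨c, hc0, hc1⟩ := exists_first_col v hv0
    have hv' : v = ![c.1 0 0, c.1 1 0] := by
      ext i
      fin_cases i
      · exact hc0.symm
      · exact hc1.symm
    set w : Fin 2 → F := ![c.1 0 1, c.1 1 1] with hw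
    have hvw : dd v w = 1 := by
      have hdet : c.1 0 0 * c.1 1 1 - c.1 0 1 * c.1 1 0 = 1 := by
        have := c.2
        rwa [Matrix.det_fin_two] at this
      simp only [dd, hw, hv']
      simp
      linear_combination hdet
    have hfixall : ∀ x ∈ 𝒳, x v = v := by
      intro x hx
      have h1 : x₀ (x v) = x v := by
        have h2 := congrArg (fun t : (Fin 2 → F) ≃+ (Fin 2 → F) => t v) (hcomm x₀ hx₀ x hx)
        simp only [aa_mul_apply, hv] at h2
        exact h2
      have h2 := lin_line (hlin x₀ hx₀) hne hv0 hv h1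
      have h3 := eq_smul_of_dd hvw h2
      have h4 := scalar_eq_one hchar (hlin x hx) (hexp x hx) hv0 h3
      rw [h4, one_smul] at h3
      exact h3
    have hf : ∀ x ∈ 𝒳, ∀ u, x u = u + (dd v u * dd (x w) w) • v := fun x hx u =>
      unip hchar (hlin x hx) (hexp x hx) hvw (hfixall x hx) u
    have ha0 : dd (x₀ w) w ≠ 0 := by
      intro h
      apply hne
      apply AddEquiv.ext
      intro u
      rw [hf x₀ hx₀ u, h]
      simp [aa_one_apply]
    have hmem : ∀ u, u ∈ fixA 𝒳 ↔ dd v u = 0 := by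
      intro u
      constructor
      · intro h
        exact lin_line (hlin x₀ hx₀) hne hv0 hv (h x₀ hx₀)
      · intro h x hx
        rw [hf x hx u, h]
        simp
    have hcardfix : Nat.card (fixA 𝒳) = Nat.card F := by
      symm
      refine Nat.card_congr (Equiv.ofBijective (fun l : F => (⟨l • v, (hmem _).2 (by
        rw [dd_smul_right, dd_self, mul_zero])⟩ : fixA 𝒳)) ⟨?_, ?_⟩)
      · intro a b h
        exact smul_left_injective F hv0 (congrArg Subtype.val h)
      · rintro ⟨u, hu⟩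
        refine ⟨dd u w, Subtype.ext ?_⟩
        exact (eq_smul_of_dd hvw ((hmem u).1 hu)).symm
    have hinj : Function.Injective (fun x : 𝒳 => dd ((x : (Fin 2 → F) ≃+ (Fin 2 → F)) w) w) := by
      rintro ⟨x, hx⟩ ⟨y, hy⟩ h
      have h1 : dd (x w) w = dd (y w) w := h
      apply Subtype.ext
      apply AddEquiv.ext
      intro u
      show x u = y u
      rw [hf x hx u, hf y hy u, h1]
    have hle : Nat.card 𝒳 ≤ Nat.card F := Nat.card_le_card_of_injective _ hinj
    have hq : 0 < Nat.card F := Nat.card_pos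
    rw [hcardfix, pow_two]
    refine ⟨Nat.mul_le_mul_right _ hle, fun heq => ?_⟩
    have heq' : Nat.card 𝒳 = Nat.card F := Nat.eq_of_mul_eq_mul_right hq heq
    have hbij := hinj.bijective_of_nat_card_le (le_of_eq heq'.symm)
    have hconj : ∀ (l : F) (u : Fin 2 → F), (c * eU l * c⁻¹ : SL₂F).1.mulVec u = u + (dd v u * l) • v := by
      intro l u
      rw [conj_eU_apply, ← hv']
    refine ⟨fun x hx => ⟨c * eU (dd (x w) w) * c⁻¹, fun u => ?_⟩, fun _ => ⟨c, fun l => ?_⟩⟩
    · rw [hconj, hf x hx u]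
    · obtain ⟨⟨x, hx⟩, hxl⟩ := hbij.2 l
      refine ⟨x, hx, fun u => ?_⟩
      have h1 : dd (x w) w = l := hxl
      rw [hconj, hf x hx u, h1]

theorem char_of_card (hc : Nat.card F = p ^ n) (hn : 1 ≤ n) : (p : F) = 0 := by
  have h1 : (Nat.card F : F) = 0 := by
    haveI := Fintype.ofFinite F
    rw [Nat.card_eq_fintype_card]
    exact Nat.cast_card_eq_zero F
  rw [hc, Nat.cast_pow] at h1
  exact pow_eq_zero_iff (by omega) |>.1 h1

theorem card_ringHom_le (hc : Nat.card F = p ^ n) (hn : 1 ≤ n) : Nat.card (F →+* F) ≤ n := by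
  classical
  haveI := charP_of (F := F) (char_of_card hc hn)
  letI : Algebra (ZMod p) F := ZMod.algebra F p
  haveI : FiniteDimensional (ZMod p) F := Module.Finite.of_finite
  haveI : Fintype F := Fintype.ofFinite F
  have h1 := AlgHom.card_le (F := ZMod p) (K := F)
  have h2 : Module.finrank (ZMod p) F = n := by
    have h3 := Module.card_eq_pow_finrank (K := ZMod p) (V := F)
    rw [ZMod.card, ← Nat.card_eq_fintype_card, hc] at h3
    exact (Nat.pow_right_injective hp.out.two_le h3).symm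
  rw [h2] at h1
  refine le_trans ?_ h1
  rw [← Nat.card_eq_fintype_card]
  refine Nat.card_le_card_of_injective
    (fun f : F →+* F => ({ f with commutes' := fun r => ?_ } : F →ₐ[ZMod p] F)) ?_
  · have h3 : f.comp (algebraMap (ZMod p) F) = algebraMap (ZMod p) F := RingHom.ext_zmod _ _
    exact congrFun (congrArg DFunLike.coe h3) r
  · intro a b h
    ext x
    exact congrArg (fun t : F →ₐ[ZMod p] F => t x) h

theorem case_semi (hc : Nat.card F = p ^ n) (hn : 1 ≤ n) (𝒳 : Subgroup ((Fin 2 → F) ≃+ (Fin 2 → F)))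
    (hcomm : ∀ x ∈ 𝒳, ∀ y ∈ 𝒳, x * y = y * x) (hexp : ∀ x ∈ 𝒳, x ^ p = 1)
    (hσ : ∀ x ∈ 𝒳, ∃ σ : F →+* F, ∀ (l : F) (v : Fin 2 → F), x (l • v) = σ l • x v)
    {x₁ : (Fin 2 → F) ≃+ (Fin 2 → F)} (hx₁ : x₁ ∈ 𝒳) (hnl : ¬ IsLin x₁) :
    Nat.card 𝒳 * Nat.card (fixA 𝒳) < Nat.card F ^ 2 := by
  classical
  have hchar := char_of_card hc hn
  choose! σx hσx using hσ
  set σ₁ := σx x₁ with hσ₁
  have hx₁σ : ∀ (l : F) (v : Fin 2 → F), x₁ (l • v) = σ₁ l • x₁ v := hσx x₁ hx₁
  obtain ⟨y₁, hy₁⟩ : ∃ y : F, σ₁ y ≠ y := by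
    unfold IsLin at hnl
    push_neg at hnl
    obtain ⟨l, v, hlv⟩ := hnl
    refine ⟨l, fun h => hlv ?_⟩
    rw [hx₁σ, h]
  have hs : sFix σ₁ * sFix σ₁ ≤ Nat.card F := sFix_sq_le σ₁ hy₁
  have hn' : Nat.card (F →+* F) ≤ n := card_ringHom_le hc hn
  have hqn : n < Nat.card F := by
    rw [hc]
    exact Nat.lt_pow_self hp.out.one_lt
  have hq : 0 < Nat.card F := Nat.card_pos
  -- the count
  let L := {y : (Fin 2 → F) ≃+ (Fin 2 → F) // y ∈ 𝒳 ∧ IsLin y}
  haveI : Finite (F →+* F) := Finite.of_injective (fun f : F →+* F => (f : F → F)) DFunLike.coe_injective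
  have hcount : Nat.card 𝒳 ≤ Nat.card L * Nat.card (F →+* F) := by
    have hrep : ∀ b : F →+* F, ∃ r : (Fin 2 → F) ≃+ (Fin 2 → F), (∃ x ∈ 𝒳, σx x = b) →
        (r ∈ 𝒳 ∧ ∀ (l : F) (u : Fin 2 → F), r (l • u) = b l • r u) := by
      intro b
      by_cases h : ∃ x ∈ 𝒳, σx x = b
      · obtain ⟨x, hx, rfl⟩ := h
        exact ⟨x, fun _ => ⟨hx, hσx x hx⟩⟩
      · exact ⟨1, fun h' => absurd h' h⟩
    choose rep hrep using hrep
    have hlin : ∀ x ∈ 𝒳, (rep (σx x))⁻¹ * x ∈ 𝒳 ∧ IsLin ((rep (σx x))⁻¹ * x) := by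
      intro x hx
      obtain ⟨hr, hrl⟩ := hrep (σx x) ⟨x, hx, rfl⟩
      refine ⟨𝒳.mul_mem (𝒳.inv_mem hr) hx, fun l u => ?_⟩
      rw [aa_mul_apply, aa_mul_apply, hσx x hx]
      set r := rep (σx x) with hr'
      apply r.injective
      have h1 : ∀ z, r (r⁻¹ z) = z := fun z => r.apply_symm_apply z
      rw [h1, hrl, h1]
    rw [← Nat.card_prod]
    refine Nat.card_le_card_of_injective
      (fun x : 𝒳 => ((⟨(rep (σx x.1))⁻¹ * x.1, hlin x.1 x.2⟩ : L), σx x.1)) ?_
    rintro ⟨x, hx⟩ ⟨y, hy⟩ h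
    have h1 : σx x = σx y := congrArg Prod.snd h
    have h2 : (rep (σx x))⁻¹ * x = (rep (σx y))⁻¹ * y := congrArg (fun t => (t.1 : (Fin 2 → F) ≃+ (Fin 2 → F))) h
    rw [h1] at h2
    exact Subtype.ext (mul_left_cancel h2)
  have hfixle : ∀ x ∈ 𝒳, Nat.card (fixA 𝒳) ≤ Nat.card {v : Fin 2 → F // x v = v} := by
    intro x hx
    exact Nat.card_le_card_of_injective (fun u : fixA 𝒳 => (⟨u.1, u.2 x hx⟩ : {v : Fin 2 → F // x v = v}))
      (fun a b h => Subtype.ext (Subtype.mk.inj h))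
  rw [pow_two]
  by_cases hL : ∃ x₀ ∈ 𝒳, IsLin x₀ ∧ x₀ ≠ 1
  · obtain ⟨x₀, hx₀, hx₀l, hne⟩ := hL
    obtain ⟨v, hv0, hv⟩ := lin_fixed hchar x₀ (hexp x₀ hx₀)
    obtain ⟨w, hvw⟩ := exists_dd_one hv0
    have hLfix : ∀ y ∈ 𝒳, IsLin y → y v = v := by
      intro x hx hxl
      have h1 : x₀ (x v) = x v := by
        have h2 := congrArg (fun t : (Fin 2 → F) ≃+ (Fin 2 → F) => t v) (hcomm x₀ hx₀ x hx)
        simp only [aa_mul_apply, hv] at h2
        exact h2
      have h2 := lin_line hx₀l hne hv0 hv h1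
      have h3 := eq_smul_of_dd hvw h2
      have h4 := scalar_eq_one hchar hxl (hexp x hx) hv0 h3
      rw [h4, one_smul] at h3
      exact h3
    -- the action of `x₁`
    obtain ⟨μ, hμ⟩ : ∃ μ : F, x₁ v = μ • v := by
      have h1 : x₀ (x₁ v) = x₁ v := by
        have h2 := congrArg (fun t : (Fin 2 → F) ≃+ (Fin 2 → F) => t v) (hcomm x₀ hx₀ x₁ hx₁)
        simp only [aa_mul_apply, hv] at h2
        exact h2
      exact ⟨_, eq_smul_of_dd hvw (lin_line hx₀l hne hv0 hv h1)⟩
    have hμ0 : μ ≠ 0 := by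
      rintro rfl
      rw [zero_smul] at hμ
      exact hv0 (x₁.injective (by rw [hμ, map_zero]))
    set τ := dd (x₁ w) w with hτ
    set ν := dd v (x₁ w) with hν
    have hx₁w : x₁ w = τ • v + ν • w := by
      have := dd_expand (x₁ w) v w
      rwa [hvw, one_smul] at this
    have hσ₁surj : Function.Surjective σ₁ := Finite.surjective_of_injective σ₁.injective
    have hν0 : ν ≠ 0 := by
      intro h0
      obtain ⟨t, ht⟩ := hσ₁surj (τ / μ)
      have h1 : x₁ (t • v) = x₁ w := by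
        rw [hx₁σ, hμ, ht, smul_smul, hx₁w, h0, zero_smul, add_zero]
        congr 1
        field_simp
      have h2 := x₁.injective h1
      rw [← h2, dd_smul_right, dd_self, mul_zero] at hvw
      exact zero_ne_one hvw
    -- the linear elements
    have hLcard : Nat.card L ≤ sFix σ₁ := by
      refine le_trans ?_ (sol_le σ₁ (μ / ν))
      refine Nat.card_le_card_of_injective (fun y : L => ⟨dd (y.1 w) w, ?_⟩) ?_
      · obtain ⟨y, hy, hyl⟩ := y
        show μ / ν * σ₁ (dd (y w) w) = dd (y w) w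
        set a := dd (y w) w with ha
        have hyu := unip hchar hyl (hexp y hy) hvw (hLfix y hy hyl)
        have hyw : y w = w + a • v := by
          have := hyu w
          rwa [hvw, one_mul] at this
        have h1 : x₁ (y w) = y (x₁ w) := by
          have h2 := congrArg (fun t : (Fin 2 → F) ≃+ (Fin 2 → F) => t w) (hcomm x₁ hx₁ y hy)
          exact h2
        rw [hyw, map_add, hx₁σ, hμ, hx₁w, map_add, hyl, hyl, hLfix y hy hyl, hyw] at h1
        have h3 : (σ₁ a * μ) • v = (ν * a) • v := by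
          have h4 : τ • v + ν • w + σ₁ a • μ • v = τ • v + ν • (w + a • v) := h1
          rw [smul_add, smul_smul, smul_smul] at h4
          have h5 : τ • v + ν • w + (σ₁ a * μ) • v - (τ • v + ν • w) =
              τ • v + (ν • w + (ν * a) • v) - (τ • v + ν • w) := by rw [h4]
          have h6 : ∀ r s : Fin 2 → F, τ • v + ν • w + r - (τ • v + ν • w) = r := by
            intro r s
            abel
          have h7 : τ • v + (ν • w + (ν * a) • v) - (τ • v + ν • w) = (ν * a) • v := by abel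
          rwa [h7, h6 _ 0] at h5
        have h4 := smul_left_injective F hv0 h3
        field_simp
        linear_combination h4
      · rintro ⟨y, hy, hyl⟩ ⟨z, hz, hzl⟩ h
        have h1 : dd (y w) w = dd (z w) w := congrArg Subtype.val h
        apply Subtype.ext
        apply AddEquiv.ext
        intro u
        show y u = z u
        rw [unip hchar hyl (hexp y hy) hvw (hLfix y hy hyl) u,
          unip hchar hzl (hexp z hz) hvw (hLfix z hz hzl) u, h1]
    have hfixcard : Nat.card (fixA 𝒳) ≤ sFix σ₁ := by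
      refine le_trans ?_ (sol_le σ₁ μ)
      have hmem : ∀ u : fixA 𝒳, μ * σ₁ (dd u.1 w) = dd u.1 w := by
        rintro ⟨u, hu⟩
        have h1 := lin_line hx₀l hne hv0 hv (hu x₀ hx₀)
        have h2 := eq_smul_of_dd hvw h1
        have h3 := hu x₁ hx₁
        show μ * σ₁ (dd u w) = dd u w
        set l := dd u w with hl
        rw [h2, hx₁σ, hμ, smul_smul] at h3
        have h4 := smul_left_injective F hv0 h3
        rw [mul_comm]
        exact h4
      refine Nat.card_le_card_of_injective (fun u : fixA 𝒳 => ⟨dd u.1 w, hmem u⟩) ?_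
      rintro ⟨u, hu⟩ ⟨u', hu'⟩ h
      have h1 : dd u w = dd u' w := congrArg Subtype.val h
      apply Subtype.ext
      show u = u'
      rw [eq_smul_of_dd hvw (lin_line hx₀l hne hv0 hv (hu x₀ hx₀)),
        eq_smul_of_dd hvw (lin_line hx₀l hne hv0 hv (hu' x₀ hx₀)), h1]
    calc Nat.card 𝒳 * Nat.card (fixA 𝒳) ≤ (sFix σ₁ * Nat.card (F →+* F)) * sFix σ₁ :=
          Nat.mul_le_mul (hcount.trans (Nat.mul_le_mul_right _ hLcard)) hfixcard
      _ = (sFix σ₁ * sFix σ₁) * Nat.card (F →+* F) := by ring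
      _ ≤ Nat.card F * n := Nat.mul_le_mul hs hn'
      _ < Nat.card F * Nat.card F := Nat.mul_lt_mul_of_pos_left hqn hq
  · push_neg at hL
    have h1 : Subsingleton L := by
      refine ⟨fun a b => Subtype.ext ?_⟩
      rw [hL a.1 a.2.1 a.2.2, hL b.1 b.2.1 b.2.2]
    have h2 : Nat.card L ≤ 1 := Finite.card_le_one_iff_subsingleton.2 h1
    calc Nat.card 𝒳 * Nat.card (fixA 𝒳) ≤ (1 * Nat.card (F →+* F)) * Nat.card F :=
          Nat.mul_le_mul (hcount.trans (Nat.mul_le_mul_right _ h2))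
            ((hfixle x₁ hx₁).trans ((fix_two σ₁ x₁ hx₁σ).trans hs))
      _ ≤ n * Nat.card F := by
        rw [one_mul]
        exact Nat.mul_le_mul_right _ hn'
      _ < Nat.card F * Nat.card F := Nat.mul_lt_mul_of_pos_right hqn hq

/-- **The natural module of `SL₂(F)`.** -/
theorem sl2_single (hc : Nat.card F = p ^ n) (hn : 1 ≤ n) (𝒳 : Subgroup ((Fin 2 → F) ≃+ (Fin 2 → F)))
    (hcomm : ∀ x ∈ 𝒳, ∀ y ∈ 𝒳, x * y = y * x) (hexp : ∀ x ∈ 𝒳, x ^ p = 1)
    (hnorm : ∀ x ∈ 𝒳, ∀ e : SL₂F, ∃ e' : SL₂F, ∀ v, x (e.1.mulVec v) = e'.1.mulVec (x v)) :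
    Nat.card 𝒳 * Nat.card (fixA 𝒳) ≤ Nat.card F ^ 2 ∧
      (Nat.card 𝒳 * Nat.card (fixA 𝒳) = Nat.card F ^ 2 →
        (∀ x ∈ 𝒳, ∃ e : SL₂F, ∀ v, x v = e.1.mulVec v) ∧
        (𝒳 ≠ ⊥ → ∃ c : SL₂F, ∀ l : F, ∃ x ∈ 𝒳, ∀ v, x v = (c * eU l * c⁻¹ : SL₂F).1.mulVec v)) := by
  have hchar := char_of_card hc hn
  by_cases hall : ∀ x ∈ 𝒳, IsLin x
  · exact case_lin hchar 𝒳 hcomm hexp hall
  · push_neg at hall
    obtain ⟨x₁, hx₁, hnl⟩ := hall
    have hσ : ∀ x ∈ 𝒳, ∃ σ : F →+* F, ∀ (l : F) (v : Fin 2 → F), x (l • v) = σ l • x v := by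
      intro x hx
      apply exists_sigma
      intro e'
      obtain ⟨e, he⟩ := hnorm x⁻¹ (𝒳.inv_mem hx) e'
      refine ⟨e, fun v => ?_⟩
      have h1 := he (x v)
      have h2 : x⁻¹ (x v) = v := x.symm_apply_apply v
      rw [h2] at h1
      rw [← h1]
      exact x.apply_symm_apply _
    have hlt := case_semi hc hn 𝒳 hcomm hexp hσ hx₁ hnl
    exact ⟨le_of_lt hlt, fun h => absurd h (Nat.ne_of_lt hlt)⟩

end main

end Cfsg.Agent.Lib.BHS.NatSL2
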