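/-
The even weight module of the symmetric group of odd degree: elementary abelian `2`-groups of additive automorphisms
normalizing the symmetric group.
-/
import Cfsg.Agent.Lib.BHS.NatSL2

set_option autoImplicit false
set_option linter.unusedSectionVars false
set_option linter.unusedVariables false
set_option linter.unusedSimpArgs false

namespace Cfsg.Agent.Lib.BHS.NatPerm

open Equiv Cfsg.Agent.Lib.BHS.NatSL2

variable {n : ℕ}

/-- The even weight vectors. -/
def evenS (n : ℕ) : AddSubgroup (Fin n → ZMod 2) where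
  carrier := {v | ∑ i, v i = 0}
  zero_mem' := by simp
  add_mem' := by
    intro a b ha hb
    simp only [Set.mem_setOf_eq, Pi.add_apply, Finset.sum_add_distrib] at ha hb ⊢
    rw [ha, hb, add_zero]
  neg_mem' := by
    intro a ha
    simp only [Set.mem_setOf_eq, Pi.neg_apply, Finset.sum_neg_distrib] at ha ⊢
    rw [ha, neg_zero]

theorem mem_evenS {v : Fin n → ZMod 2} : v ∈ evenS n ↔ ∑ i, v i = 0 := Iff.rfl

theorem z2_add_self (a : ZMod 2) : a + a = 0 := by
  revert a
  decide

theorem z2_cases (a : ZMod 2) : a = 0 ∨ a = 1 := by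
  revert a
  decide

theorem z2_neg (a : ZMod 2) : -a = a := by
  revert a
  decide

theorem z2_sub (a b : ZMod 2) : a - b = a + b := by
  revert a b
  decide

/-- The action of permutations. -/
def pAct (π : Perm (Fin n)) : evenS n ≃+ evenS n where
  toFun v := ⟨fun i => v.1 (π⁻¹ i), by
    rw [mem_evenS]
    have h := v.2
    rw [mem_evenS] at h
    rw [← h]
    exact Equiv.sum_comp (π⁻¹) v.1⟩
  invFun v := ⟨fun i => v.1 (π i), by
    rw [mem_evenS]
    have h := v.2
    rw [mem_evenS] at h
    rw [← h]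
    exact Equiv.sum_comp π v.1⟩
  left_inv v := by
    apply Subtype.ext
    funext i
    simp
  right_inv v := by
    apply Subtype.ext
    funext i
    simp
  map_add' a b := rfl

theorem pAct_apply (π : Perm (Fin n)) (v : evenS n) (i : Fin n) : (pAct π v).1 i = v.1 (π⁻¹ i) := rfl

/-- The action as a homomorphism. -/
def pHom (n : ℕ) : Perm (Fin n) →* (evenS n ≃+ evenS n) where
  toFun := pAct
  map_one' := by
    apply AddEquiv.ext
    intro v
    apply Subtype.ext
    funext i
    rfl
  map_mul' a b := by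
    apply AddEquiv.ext
    intro v
    apply Subtype.ext
    funext i
    show v.1 ((a * b)⁻¹ i) = v.1 (b⁻¹ (a⁻¹ i))
    rw [mul_inv_rev]
    rfl

theorem pHom_apply (π : Perm (Fin n)) : pHom n π = pAct π := rfl

/-- The weight two vectors. -/
noncomputable def yy (i j : Fin n) : Fin n → ZMod 2 := Pi.single i 1 + Pi.single j 1

theorem yy_apply (i j k : Fin n) : yy i j k = (if k = i then 1 else 0) + (if k = j then 1 else 0) := by
  simp [yy, Pi.single_apply]

theorem yy_comm (i j : Fin n) : yy i j = yy j i := by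
  simp [yy, add_comm]

theorem yy_self (i : Fin n) : yy i i = 0 := by
  funext k
  rw [yy_apply]
  exact z2_add_self _

theorem yy_mem (i j : Fin n) : yy i j ∈ evenS n := by
  rw [mem_evenS]
  simp only [yy, Pi.add_apply, Finset.sum_add_distrib, Finset.sum_pi_single', Finset.mem_univ, if_true]
  rfl

theorem yy_left {i j : Fin n} (h : i ≠ j) : yy i j i = 1 := by
  rw [yy_apply, if_pos rfl, if_neg h, add_zero]

theorem yy_right {i j : Fin n} (h : i ≠ j) : yy i j j = 1 := by
  rw [yy_apply, if_pos rfl, if_neg h.symm, zero_add]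

theorem yy_other {i j k : Fin n} (h₁ : k ≠ i) (h₂ : k ≠ j) : yy i j k = 0 := by
  rw [yy_apply, if_neg h₁, if_neg h₂, add_zero]

theorem yy_ne_zero {i j k : Fin n} (hij : i ≠ j) : yy i j k ≠ 0 ↔ k = i ∨ k = j := by
  constructor
  · intro h
    by_contra hcon
    push_neg at hcon
    exact h (yy_other hcon.1 hcon.2)
  · rintro (rfl | rfl)
    · rw [yy_left hij]
      exact one_ne_zero
    · rw [yy_right hij]
      exact one_ne_zero

theorem yy_eq_one {i j k : Fin n} (hij : i ≠ j) : yy i j k = 1 ↔ k = i ∨ k = j := by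
  rw [← yy_ne_zero hij]
  rcases z2_cases (yy i j k) with h | h <;> simp [h]

theorem yy_add (i j k : Fin n) : yy i j + yy i k = yy j k := by
  funext l
  simp only [Pi.add_apply, yy_apply]
  have h := z2_add_self (if l = i then (1 : ZMod 2) else 0)
  linear_combination h

theorem yy_eq_iff {a b c d : Fin n} (hab : a ≠ b) (hcd : c ≠ d) :
    yy a b = yy c d ↔ (a = c ∧ b = d) ∨ (a = d ∧ b = c) := by
  constructor
  · intro h
    have ha : yy c d a ≠ 0 := by
      rw [← h, yy_left hab]
      exact one_ne_zero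
    have hb : yy c d b ≠ 0 := by
      rw [← h, yy_right hab]
      exact one_ne_zero
    rw [yy_ne_zero hcd] at ha hb
    rcases ha with rfl | rfl <;> rcases hb with rfl | rfl
    · exact absurd rfl hab
    · exact Or.inl ⟨rfl, rfl⟩
    · exact Or.inr ⟨rfl, rfl⟩
    · exact absurd rfl hab
  · rintro (⟨rfl, rfl⟩ | ⟨rfl, rfl⟩)
    · rfl
    · exact yy_comm _ _

/-- The weight two vectors as elements of the even weight module. -/
noncomputable def yE (i j : Fin n) : evenS n := ⟨yy i j, yy_mem i j⟩

theorem yE_val (i j : Fin n) : (yE i j).1 = yy i j := rfl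

theorem pAct_yE (π : Perm (Fin n)) (i j : Fin n) : pAct π (yE i j) = yE (π i) (π j) := by
  apply Subtype.ext
  funext k
  rw [pAct_apply, yE_val, yE_val, yy_apply, yy_apply]
  have h1 : ∀ a : Fin n, (π⁻¹ k = a) ↔ (k = π a) := by
    intro a
    rw [Perm.inv_eq_iff_eq]
  simp only [h1]

theorem yy_overlap {a b c d e f : Fin n} (hab : a ≠ b) (hcd : c ≠ d) (hef : e ≠ f)
    (h : yy a b + yy c d = yy e f) : a = c ∨ a = d ∨ b = c ∨ b = d := by
  by_contra hcon
  push_neg at hcon
  obtain ⟨h₁, h₂, h₃, h₄⟩ := hcon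
  have key : ∀ k, (k = a ∨ k = b) → k = e ∨ k = f := by
    intro k hk
    rw [← yy_ne_zero hef, ← h, Pi.add_apply]
    rcases hk with rfl | rfl
    · rw [yy_left hab, yy_other h₁ h₂, add_zero]
      exact one_ne_zero
    · rw [yy_right hab, yy_other h₃ h₄, add_zero]
      exact one_ne_zero
  have key' : ∀ k, (k = c ∨ k = d) → k = e ∨ k = f := by
    intro k hk
    rw [← yy_ne_zero hef, ← h, Pi.add_apply]
    rcases hk with rfl | rfl
    · rw [yy_left hcd, yy_other (Ne.symm h₁) (Ne.symm h₃), zero_add]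
      exact one_ne_zero
    · rw [yy_right hcd, yy_other (Ne.symm h₂) (Ne.symm h₄), zero_add]
      exact one_ne_zero
  have ha := key a (Or.inl rfl)
  have hb := key b (Or.inr rfl)
  have hc := key' c (Or.inl rfl)
  rcases ha with rfl | rfl <;> rcases hb with rfl | rfl <;> rcases hc with rfl | rfl <;> simp_all

theorem avoid (s : Finset (Fin n)) (h : s.card < n) : ∃ k, k ∉ s := by
  by_contra hcon
  push_neg at hcon
  have h1 : s = Finset.univ := Finset.eq_univ_of_forall hcon
  rw [h1, Finset.card_univ, Fintype.card_fin] at h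
  exact lt_irrefl _ h

theorem exists_fixed (hodd : Odd n) (π : Perm (Fin n)) (h2 : π ^ 2 = 1) : ∃ c, π c = c := by
  by_contra hcon
  push_neg at hcon
  have hinv : ∀ i, π (π i) = i := fun i => by
    have := congrArg (fun t : Perm (Fin n) => t i) h2
    simpa [pow_two] using this
  have h1 : ∑ _i : Fin n, (1 : ZMod 2) = 0 := by
    refine Finset.sum_involution (fun a _ => π a) ?_ ?_ ?_ ?_
    · intro a _
      exact z2_add_self 1
    · intro a _ _
      exact hcon a
    · intro a _
      exact Finset.mem_univ _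
    · intro a _
      exact hinv a
  simp only [Finset.sum_const, Finset.card_univ, Fintype.card_fin, nsmul_eq_mul, mul_one] at h1
  rw [ZMod.natCast_eq_zero_iff] at h1
  rcases hodd with ⟨m, rfl⟩
  omega

theorem swap_of_comm (hodd : Odd n) (π : Perm (Fin n)) (h2 : π ^ 2 = 1) (hne : π ≠ 1) (y : Fin n → ZMod 2)
    (hy : ∀ v : evenS n, (pAct π v).1 - v.1 = 0 ∨ (pAct π v).1 - v.1 = y) :
    ∃ a b, a ≠ b ∧ π = swap a b ∧ y = yy a b := by
  obtain ⟨c, hc⟩ := exists_fixed hodd π h2
  have hinv : ∀ i, π (π i) = i := fun i => by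
    have := congrArg (fun t : Perm (Fin n) => t i) h2
    simpa [pow_two] using this
  have hmoved : ∀ i, π i ≠ i → yy i (π i) = y := by
    intro i hi
    have hic : i ≠ c := by
      rintro rfl
      exact hi hc
    have h3 : (pAct π (yE i c)).1 - (yE i c).1 = yy i (π i) := by
      rw [pAct_yE, yE_val, yE_val, hc, sub_eq_add_neg]
      have h4 : -yy i c = yy i c := by
        funext k
        exact z2_neg _
      rw [h4, yy_comm (π i) c, yy_comm i c, add_comm]
      exact yy_add c i (π i)
    rcases hy (yE i c) with h4 | h4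
    · rw [h3] at h4
      exfalso
      have h5 := congrFun h4 i
      rw [yy_left (Ne.symm hi)] at h5
      exact one_ne_zero h5
    · rw [← h3, h4]
  obtain ⟨a, ha⟩ : ∃ a, π a ≠ a := by
    by_contra hcon
    push_neg at hcon
    exact hne (Equiv.ext hcon)
  refine ⟨a, π a, Ne.symm ha, ?_, (hmoved a ha).symm⟩
  ext i
  by_cases hia : i = a
  · subst hia
    simp
  by_cases hib : i = π a
  · subst hib
    simp [hinv]
  · rw [swap_apply_of_ne_of_ne hia hib]
    by_contra hcon
    have h1 : π i ≠ i := fun h => hcon (by rw [h])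
    have h2 := (hmoved i h1).trans (hmoved a ha).symm
    rcases (yy_eq_iff (Ne.symm h1) (Ne.symm ha)).1 h2 with ⟨h3, _⟩ | ⟨h3, _⟩
    · exact hia h3
    · exact hib h3

theorem pAct_eq_self_imp (hn : 3 ≤ n) {π : Perm (Fin n)} (h : ∀ v, pAct π v = v) : π = 1 := by
  ext i
  obtain ⟨j, hj⟩ := avoid {i} (by simp; omega)
  obtain ⟨k, hk⟩ := avoid {i, j} (by
    calc ({i, j} : Finset (Fin n)).card ≤ 2 := Finset.card_le_two
      _ < n := by omega)
  simp only [Finset.mem_singleton, Finset.mem_insert, not_or] at hj hk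
  have key : ∀ l, l ≠ i → π i = i ∨ π i = l := by
    intro l hl
    have h1 := h (yE i l)
    rw [pAct_yE] at h1
    have h2 : yy (π i) (π l) = yy i l := congrArg Subtype.val h1
    have h3 : π i ≠ π l := fun he => hl (π.injective he).symm
    rcases (yy_eq_iff h3 (Ne.symm hl)).1 h2 with ⟨h4, _⟩ | ⟨h4, _⟩
    · exact Or.inl h4
    · exact Or.inr h4
  rcases key j hj with h1 | h1
  · rw [h1]
    rfl
  · rcases key k hk.1 with h2 | h2
    · rw [h2]
      rfl
    · exact absurd (h1.symm.trans h2) (Ne.symm hk.2)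

theorem pHom_injective (hn : 3 ≤ n) : Function.Injective (pHom n) := by
  rw [injective_iff_map_eq_one]
  intro π h
  apply pAct_eq_self_imp hn
  intro v
  have := congrArg (fun t : evenS n ≃+ evenS n => t v) h
  exact this

section edge

variable {x : evenS n ≃+ evenS n}

theorem swap_diff (i j : Fin n) (v : evenS n) :
    (pAct (swap i j) v).1 - v.1 = 0 ∨ (pAct (swap i j) v).1 - v.1 = yy i j := by
  by_cases hij : i = j
  · subst hij
    left
    funext k
    simp [pAct_apply]
  by_cases h : v.1 i = v.1 j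
  · left
    funext k
    simp only [Pi.sub_apply, Pi.zero_apply, pAct_apply, swap_inv]
    by_cases h1 : k = i
    · subst h1
      rw [swap_apply_left, h, sub_self]
    by_cases h2 : k = j
    · subst h2
      rw [swap_apply_right, ← h, sub_self]
    · rw [swap_apply_of_ne_of_ne h1 h2, sub_self]
  · right
    have hvv : v.1 i + v.1 j = 1 := by
      rcases z2_cases (v.1 i) with h1 | h1 <;> rcases z2_cases (v.1 j) with h2 | h2 <;> simp_all
    funext k
    simp only [Pi.sub_apply, pAct_apply, swap_inv]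
    by_cases h1 : k = i
    · subst h1
      rw [swap_apply_left, yy_left hij, z2_sub, add_comm]
      exact hvv
    by_cases h2 : k = j
    · subst h2
      rw [swap_apply_right, yy_right hij, z2_sub]
      exact hvv
    · rw [swap_apply_of_ne_of_ne h1 h2, sub_self, yy_other h1 h2]

theorem edge_image (hodd : Odd n) (hn : 3 ≤ n)
    (hnorm : ∀ π, ∃ π', ∀ v, x (pAct π v) = pAct π' (x v)) {i j : Fin n} (hij : i ≠ j) :
    ∃ a b, a ≠ b ∧ x (yE i j) = yE a b := by
  obtain ⟨π', hπ'⟩ := hnorm (swap i j)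
  have hsq : π' ^ 2 = 1 := by
    apply pHom_injective hn
    rw [map_one, map_pow, pow_two]
    apply AddEquiv.ext
    intro u
    obtain ⟨v, rfl⟩ := x.surjective u
    show pAct π' (pAct π' (x v)) = x v
    rw [← hπ', ← hπ']
    have h1 : pAct (swap i j) (pAct (swap i j) v) = v := by
      have := congrArg (fun t : evenS n ≃+ evenS n => t v) (map_mul (pHom n) (swap i j) (swap i j))
      simp only [swap_mul_self, map_one] at this
      exact this.symm
    rw [h1]
  have hne : π' ≠ 1 := by
    rintro rfl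
    have h1 : swap i j = 1 := by
      apply pAct_eq_self_imp hn
      intro v
      apply x.injective
      rw [hπ']
      have := congrArg (fun t : evenS n ≃+ evenS n => t (x v)) (map_one (pHom n))
      exact this
    have h2 := congrArg (fun t : Perm (Fin n) => t i) h1
    simp only [swap_apply_left] at h2
    exact hij h2.symm
  obtain ⟨a, b, hab, -, hy⟩ := swap_of_comm hodd π' hsq hne (x (yE i j)).1 (by
    intro u
    obtain ⟨v, rfl⟩ := x.surjective u
    rw [← hπ']
    have h1 : (x (pAct (swap i j) v)).1 - (x v).1 = (x (pAct (swap i j) v - v)).1 := by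
      rw [map_sub]
      rfl
    rw [h1]
    rcases swap_diff i j v with h2 | h2
    · left
      have h3 : pAct (swap i j) v - v = 0 := Subtype.ext h2
      rw [h3, map_zero]
      rfl
    · right
      have h3 : pAct (swap i j) v - v = yE i j := Subtype.ext h2
      rw [h3])
  exact ⟨a, b, hab, Subtype.ext hy⟩

theorem star (hodd : Odd n) (h5 : 5 ≤ n)
    (hnorm : ∀ π, ∃ π', ∀ v, x (pAct π v) = pAct π' (x v)) (i : Fin n) :
    ∃ v, ∀ j, j ≠ i → (x (yE i j)).1 v ≠ 0 := by
  have hn : 3 ≤ n := by omega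
  have hed : ∀ j, j ≠ i → ∃ a b, a ≠ b ∧ (x (yE i j)).1 = yy a b := by
    intro j hj
    obtain ⟨a, b, hab, h⟩ := edge_image hodd hn hnorm (Ne.symm hj)
    exact ⟨a, b, hab, congrArg Subtype.val h⟩
  have hov : ∀ j k a b c d, j ≠ i → k ≠ i → j ≠ k → a ≠ b → c ≠ d → (x (yE i j)).1 = yy a b →
      (x (yE i k)).1 = yy c d → a = c ∨ a = d ∨ b = c ∨ b = d := by
    intro j k a b c d hj hk hjk hab hcd h1 h2
    obtain ⟨e, f, hef, h3⟩ := edge_image hodd hn hnorm hjk
    refine yy_overlap hab hcd hef ?_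
    have h4 : yE i j + yE i k = yE j k := Subtype.ext (yy_add i j k)
    have h5' := congrArg (fun t => (x t).1) h4
    simp only [map_add] at h5'
    rw [← h1, ← h2, ← yE_val e f, ← h3]
    exact h5'
  have hdist : ∀ j k, j ≠ i → j ≠ k → (x (yE i j)).1 ≠ (x (yE i k)).1 := by
    intro j k hj hjk h
    have h1 := x.injective (Subtype.ext h)
    have h2 : yy i j = yy i k := congrArg Subtype.val h1
    by_cases hik : i = k
    · subst hik
      rw [yy_self] at h2
      have h3 := congrFun h2 i
      rw [yy_left (Ne.symm hj)] at h3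
      exact one_ne_zero h3
    · rcases (yy_eq_iff (Ne.symm hj) hik).1 h2 with ⟨_, h3⟩ | ⟨_, h4⟩
      · exact hjk h3
      · exact hj h4
  obtain ⟨j₁, hj₁⟩ := avoid {i} (by simp; omega)
  obtain ⟨j₂, hj₂⟩ := avoid {i, j₁} (by
    calc ({i, j₁} : Finset (Fin n)).card ≤ 2 := Finset.card_le_two
      _ < n := by omega)
  simp only [Finset.mem_singleton, Finset.mem_insert, not_or] at hj₁ hj₂
  obtain ⟨a, b, hab, h₁⟩ := hed j₁ hj₁
  obtain ⟨c, d, hcd, h₂⟩ := hed j₂ hj₂.1
  obtain ⟨v, b', d', hvb, hvd, hbd, h₁', h₂'⟩ : ∃ v b' d', v ≠ b' ∧ v ≠ d' ∧ b' ≠ d' ∧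
      (x (yE i j₁)).1 = yy v b' ∧ (x (yE i j₂)).1 = yy v d' := by
    have hdd := hdist j₁ j₂ hj₁ (Ne.symm hj₂.2)
    rcases hov j₁ j₂ a b c d hj₁ hj₂.1 (Ne.symm hj₂.2) hab hcd h₁ h₂ with rfl | rfl | rfl | rfl
    · refine ⟨a, b, d, hab, hcd, ?_, h₁, h₂⟩
      rintro rfl
      exact hdd (h₁.trans h₂.symm)
    · refine ⟨a, b, c, hab, Ne.symm hcd, ?_, h₁, by rw [h₂, yy_comm]⟩
      rintro rfl
      exact hdd (h₁.trans (h₂.trans (yy_comm _ _)).symm)
    · refine ⟨b, a, d, Ne.symm hab, hcd, ?_, by rw [h₁, yy_comm], h₂⟩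
      rintro rfl
      exact hdd ((h₁.trans (yy_comm _ _)).trans h₂.symm)
    · refine ⟨b, a, c, Ne.symm hab, Ne.symm hcd, ?_, by rw [h₁, yy_comm], by rw [h₂, yy_comm]⟩
      rintro rfl
      exact hdd (h₁.trans h₂.symm)
  refine ⟨v, fun j hj hv => ?_⟩
  obtain ⟨p, q, hpq, hu⟩ := hed j hj
  have hvp : v ≠ p ∧ v ≠ q := by
    rw [hu] at hv
    by_contra hcon
    have : v = p ∨ v = q := by
      by_contra h
      push_neg at h
      exact hcon h
    exact (yy_ne_zero hpq).2 this hv
  have hj1 : j ≠ j₁ := by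
    rintro rfl
    rw [h₁'] at hv
    rw [yy_left hvb] at hv
    exact one_ne_zero hv
  have hj2 : j ≠ j₂ := by
    rintro rfl
    rw [h₂'] at hv
    rw [yy_left hvd] at hv
    exact one_ne_zero hv
  have o1 := hov j₁ j v b' p q hj₁ hj (Ne.symm hj1) hvb hpq h₁' hu
  have o2 := hov j₂ j v d' p q hj₂.1 hj (Ne.symm hj2) hvd hpq h₂' hu
  have hu' : (x (yE i j)).1 = yy b' d' := by
    rw [hu]
    obtain ⟨hvp₁, hvp₂⟩ := hvp
    rcases o1 with h | h | h | h
    · exact absurd h hvp₁
    · exact absurd h hvp₂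
    · subst h
      rcases o2 with h | h | h | h
      · exact absurd h hvp₁
      · exact absurd h hvp₂
      · exact absurd h (Ne.symm hbd)
      · subst h
        rfl
    · subst h
      rcases o2 with h | h | h | h
      · exact absurd h hvp₁
      · exact absurd h hvp₂
      · subst h
        exact yy_comm _ _
      · exact absurd h (Ne.symm hbd)
  obtain ⟨j₄, hj₄⟩ := avoid {i, j₁, j₂, j} (by
    calc ({i, j₁, j₂, j} : Finset (Fin n)).card ≤ 4 := Finset.card_le_four
      _ < n := by omega)
  simp only [Finset.mem_singleton, Finset.mem_insert, not_or] at hj₄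
  obtain ⟨hj₄i, hj₄1, hj₄2, hj₄j⟩ := hj₄
  obtain ⟨r, s, hrs, hw⟩ := hed j₄ hj₄i
  have o3 := hov j₄ j₁ r s v b' hj₄i hj₁ hj₄1 hrs hvb hw h₁'
  have o4 := hov j₄ j₂ r s v d' hj₄i hj₂.1 hj₄2 hrs hvd hw h₂'
  have o5 := hov j₄ j r s b' d' hj₄i hj hj₄j hrs hbd hw hu'
  have n1 : yy r s ≠ yy v b' := by
    rw [← hw, ← h₁']
    exact hdist j₄ j₁ hj₄i hj₄1
  have n2 : yy r s ≠ yy v d' := by
    rw [← hw, ← h₂']
    exact hdist j₄ j₂ hj₄i hj₄2
  have n3 : yy r s ≠ yy b' d' := by
    rw [← hw, ← hu']
    exact hdist j₄ j hj₄i hj₄j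
  rw [Ne, yy_eq_iff hrs hvb] at n1
  rw [Ne, yy_eq_iff hrs hvd] at n2
  rw [Ne, yy_eq_iff hrs hbd] at n3
  grind

theorem exists_perm (hodd : Odd n) (h5 : 5 ≤ n)
    (hnorm : ∀ π, ∃ π', ∀ v, x (pAct π v) = pAct π' (x v)) : ∃ π : Perm (Fin n), ∀ v, x v = pAct π v := by
  classical
  have hn : 3 ≤ n := by omega
  choose g hg using star (x := x) hodd h5 hnorm
  have hz : ∀ a : ZMod 2, a ≠ 0 → a = 1 := fun a ha => (z2_cases a).resolve_left ha
  have hginj : Function.Injective g := by
    intro i j hij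
    by_contra hne
    obtain ⟨k, hk⟩ := avoid {i, j} (by
      calc ({i, j} : Finset (Fin n)).card ≤ 2 := Finset.card_le_two
        _ < n := by omega)
    simp only [Finset.mem_singleton, Finset.mem_insert, not_or] at hk
    have h1 := hz _ (hg i j (Ne.symm hne))
    have h2 := hz _ (hg i k hk.1)
    have h3 := hz _ (hg j k hk.2)
    rw [← hij] at h3
    have h4 : yE i j + yE i k = yE j k := Subtype.ext (yy_add i j k)
    have h5' := congrArg (fun t => (x t).1 (g i)) h4
    simp only [map_add] at h5'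
    have h6 : (x (yE i j) + x (yE i k)).1 (g i) = (x (yE i j)).1 (g i) + (x (yE i k)).1 (g i) := rfl
    rw [h6, h1, h2, h3] at h5'
    exact absurd h5' (by decide)
  have hbij : Function.Bijective g := Finite.injective_iff_bijective.1 hginj
  let π : Perm (Fin n) := Equiv.ofBijective g hbij
  have hπ : ∀ i, π i = g i := fun _ => rfl
  have hedge : ∀ i j, i ≠ j → x (yE i j) = pAct π (yE i j) := by
    intro i j hij
    obtain ⟨a, b, hab, h⟩ := edge_image hodd hn hnorm hij
    rw [pAct_yE, hπ, hπ]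
    have h1 := hg i j (Ne.symm hij)
    have h2 := hg j i hij
    have h3 : x (yE j i) = x (yE i j) := by
      congr 1
      exact Subtype.ext (yy_comm j i)
    rw [h3] at h2
    rw [h, yE_val, yy_ne_zero hab] at h1 h2
    have hne : g i ≠ g j := fun he => hij (hginj he)
    rw [h]
    apply Subtype.ext
    show yy a b = yy (g i) (g j)
    rcases h1 with h1 | h1 <;> rcases h2 with h2 | h2
    · exact absurd (h1.trans h2.symm) hne
    · rw [h1, h2]
    · rw [h1, h2, yy_comm]
    · exact absurd (h1.trans h2.symm) hne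
  refine ⟨π, fun v => ?_⟩
  let S : AddSubgroup (evenS n) := (x.toAddMonoidHom).eqLocus (pAct π).toAddMonoidHom
  have hS : ∀ i j, yE i j ∈ S := by
    intro i j
    by_cases hij : i = j
    · subst hij
      have h0 : yE i i = (0 : evenS n) := Subtype.ext (yy_self i)
      rw [h0]
      exact S.zero_mem
    · exact hedge i j hij
  have i₀ : Fin n := ⟨0, by omega⟩
  have hv : v = ∑ i, (v.1 i).val • yE i₀ i := by
    apply Subtype.ext
    funext k
    rw [AddSubgroup.val_finset_sum, Finset.sum_apply]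
    have h1 : ∀ i, (((v.1 i).val • yE i₀ i : evenS n) : Fin n → ZMod 2) k = v.1 i * yy i₀ i k := by
      intro i
      show (v.1 i).val • (yy i₀ i k) = _
      rw [nsmul_eq_mul, ZMod.natCast_zmod_val]
    simp only [h1, yy_apply, mul_add, Finset.sum_add_distrib]
    have h2 : ∑ i, v.1 i * (if k = i₀ then (1 : ZMod 2) else 0) = 0 := by
      rw [← Finset.sum_mul]
      have h3 := v.2
      rw [mem_evenS] at h3
      rw [h3, zero_mul]
    rw [h2, zero_add]
    simp
  have hvS : v ∈ S := by
    rw [hv]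
    exact AddSubgroup.sum_mem _ (fun i _ => AddSubgroup.nsmul_mem _ (hS _ _) _)
  exact hvS

end edge

section count

open scoped Classical

/-- The fixed points of a group of permutations. -/
def fixPP (Pg : Subgroup (Perm (Fin n))) : AddSubgroup (evenS n) := fixA (Pg.map (pHom n))

theorem mem_fixPP {Pg : Subgroup (Perm (Fin n))} {v : evenS n} :
    v ∈ fixPP Pg ↔ ∀ π ∈ Pg, pAct π v = v := by
  constructor
  · intro h π hπ
    exact h _ ⟨π, hπ, rfl⟩
  · rintro h _ ⟨π, hπ, rfl⟩
    exact h π hπ

theorem natCast_odd (hodd : Odd n) : (n : ZMod 2) = 1 := by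
  rcases hodd with ⟨m, rfl⟩
  have h1 : ((2 * m + 1 : ℕ) : ZMod 2) = ((2 : ℕ) : ZMod 2) * m + 1 := by
    push_cast
    ring
  rw [h1]
  have h2 : ((2 : ℕ) : ZMod 2) = 0 := by decide
  rw [h2, zero_mul, zero_add]

/-- Lifting to the even weight module. -/
noncomputable def liftE (hodd : Odd n) (u : Fin n → ZMod 2) : evenS n :=
  ⟨fun k => u k + ∑ i, u i, by
    rw [mem_evenS, Finset.sum_add_distrib, Finset.sum_const, Finset.card_univ, Fintype.card_fin, nsmul_eq_mul,
      natCast_odd hodd, one_mul]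
    exact z2_add_self _⟩

theorem liftE_apply (hodd : Odd n) (u : Fin n → ZMod 2) (k : Fin n) :
    (liftE hodd u).1 k = u k + ∑ i, u i := rfl

theorem liftE_sub (hodd : Odd n) (u u' : Fin n → ZMod 2) :
    liftE hodd (u - u') = liftE hodd u - liftE hodd u' := by
  apply Subtype.ext
  funext k
  show (u - u') k + ∑ i, (u - u') i = (u k + ∑ i, u i) - (u' k + ∑ i, u' i)
  simp only [Pi.sub_apply, Finset.sum_sub_distrib]
  ring

theorem pAct_liftE (hodd : Odd n) (π : Perm (Fin n)) (u : Fin n → ZMod 2) (k : Fin n) :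
    (pAct π (liftE hodd u)).1 k = u (π⁻¹ k) + ∑ i, u i := rfl

/-- The transversal argument. -/
theorem transversal (hodd : Odd n) {Pg Qg : Subgroup (Perm (Fin n))} (hQP : Qg ≤ Pg) (R : Finset (Fin n))
    (hQg : ∀ ρ ∈ Qg, ∀ r ∈ R, ρ r = r)
    (hinv : ∀ u : Fin n → ZMod 2, (∀ k, k ∉ R → u k = 0) → (∀ π ∈ Pg, ∀ k, u (π⁻¹ k) = u k) → u = 0) :
    2 ^ R.card * Nat.card (fixPP Pg) ≤ Nat.card (fixPP Qg) := by
  let ex : (↥R → ZMod 2) → (Fin n → ZMod 2) := fun u k => if h : k ∈ R then u ⟨k, h⟩ else 0
  have hex0 : ∀ u k, k ∉ R → ex u k = 0 := fun u k hk => dif_neg hk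
  have hfixQg : ∀ u, liftE hodd (ex u) ∈ fixPP Qg := by
    intro u
    rw [mem_fixPP]
    intro ρ hρ
    apply Subtype.ext
    funext k
    rw [pAct_liftE, liftE_apply]
    congr 1
    by_cases hk : k ∈ R
    · have h1 : ρ⁻¹ k = k := by
        rw [Perm.inv_eq_iff_eq]
        exact (hQg ρ hρ k hk).symm
      rw [h1]
    · rw [hex0 u k hk, hex0]
      intro h2
      have h3 := hQg ρ hρ _ h2
      have h4 : ρ (ρ⁻¹ k) = k := by simp
      rw [h4] at h3
      exact hk (h3 ▸ h2)
  have hle : fixPP Pg ≤ fixPP Qg := by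
    intro c hc
    rw [mem_fixPP] at hc ⊢
    exact fun ρ hρ => hc ρ (hQP hρ)
  have hcard : 2 ^ R.card * Nat.card (fixPP Pg) = Nat.card ((↥R → ZMod 2) × fixPP Pg) := by
    rw [Nat.card_prod, Nat.card_fun]
    simp
  rw [hcard]
  refine Nat.card_le_card_of_injective (fun a => (⟨liftE hodd (ex a.1) + a.2.1,
    AddSubgroup.add_mem _ (hfixQg a.1) (hle a.2.2)⟩ : fixPP Qg)) ?_
  rintro ⟨u, c, hc⟩ ⟨u', c', hc'⟩ h
  have h1 : liftE hodd (ex u) + c = liftE hodd (ex u') + c' := congrArg Subtype.val h
  have h2 : liftE hodd (ex u - ex u') = c' - c := by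
    rw [liftE_sub]
    have : liftE hodd (ex u) = liftE hodd (ex u') + c' - c := by
      rw [← h1]
      abel
    rw [this]
    abel
  have h3 : liftE hodd (ex u - ex u') ∈ fixPP Pg := by
    rw [h2]
    exact AddSubgroup.sub_mem _ hc' hc
  have h4 : ex u - ex u' = 0 := by
    apply hinv
    · intro k hk
      simp only [Pi.sub_apply]
      rw [hex0 u k hk, hex0 u' k hk, sub_zero]
    · intro π hπ k
      have h5 := (mem_fixPP.1 h3) π hπ
      have h6 := congrFun (congrArg Subtype.val h5) k
      rw [pAct_liftE, liftE_apply] at h6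
      exact add_right_cancel h6
  have h5 : u = u' := by
    funext r
    have h6 := congrFun h4 r.1
    simp only [Pi.sub_apply, Pi.zero_apply, ex, r.2, dif_pos] at h6
    exact sub_eq_zero.1 h6
  subst h5
  have h6 : c = c' := add_left_cancel h1
  subst h6
  rfl

theorem lt_two_pow_pred : ∀ m : ℕ, 3 ≤ m → m < 2 ^ (m - 1) := by
  intro m hm
  induction m, hm using Nat.le_induction with
  | base => norm_num
  | succ k hk ih =>
    have h1 : k + 1 - 1 = (k - 1) + 1 := by omega
    rw [h1, pow_succ]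
    omega

theorem perm_count (hodd : Odd n) (Pg : Subgroup (Perm (Fin n)))
    (hc : ∀ a ∈ Pg, ∀ b ∈ Pg, a * b = b * a) (he : ∀ a ∈ Pg, a ^ 2 = 1) :
    Nat.card Pg * Nat.card (fixPP Pg) ≤ Nat.card (evenS n) ∧
      (Nat.card Pg * Nat.card (fixPP Pg) = Nat.card (evenS n) → Pg = ⊥ ∨ ∃ a b, a ≠ b ∧ swap a b ∈ Pg) := by
  classical
  induction' hk : Nat.card Pg using Nat.strong_induction_on with k ih generalizing Pg
  subst hk
  by_cases hb : Pg = ⊥
  · subst hb
    have h1 : fixPP (⊥ : Subgroup (Perm (Fin n))) = ⊤ := by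
      rw [eq_top_iff]
      intro v _
      rw [mem_fixPP]
      intro π hπ
      rw [Subgroup.mem_bot] at hπ
      subst hπ
      exact congrArg (fun t : evenS n ≃+ evenS n => t v) (map_one (pHom n))
    rw [h1, Subgroup.card_bot, AddSubgroup.card_top, one_mul]
    exact ⟨le_refl _, fun _ => Or.inl rfl⟩
  · obtain ⟨π₀, hπ₀, hne⟩ : ∃ π₀ ∈ Pg, π₀ ≠ 1 := by
      obtain ⟨y, hy⟩ := (Subgroup.ne_bot_iff_exists_ne_one).1 hb
      exact ⟨y.1, y.2, fun h => hy (Subtype.ext h)⟩
    obtain ⟨b, hbm⟩ : ∃ b, π₀ b ≠ b := by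
      by_contra hcon
      push_neg at hcon
      exact hne (Equiv.ext hcon)
    let Stab : Subgroup ↥Pg := MulAction.stabilizer ↥Pg b
    let Qg : Subgroup (Perm (Fin n)) := Stab.map Pg.subtype
    have hmemQg : ∀ ρ, ρ ∈ Qg ↔ ρ ∈ Pg ∧ ρ b = b := by
      intro ρ
      constructor
      · rintro ⟨r, hr, rfl⟩
        exact ⟨r.2, hr⟩
      · rintro ⟨h1, h2⟩
        exact ⟨⟨ρ, h1⟩, h2, rfl⟩
    have hQP : Qg ≤ Pg := fun ρ hρ => ((hmemQg ρ).1 hρ).1
    have hcardQg : Nat.card Qg = Nat.card Stab := Subgroup.card_map_of_injective Pg.subtype_injective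
    set O : Set (Fin n) := MulAction.orbit ↥Pg b with hO
    have hmO : ∀ k, k ∈ O ↔ ∃ π ∈ Pg, π b = k := by
      intro k
      constructor
      · rintro ⟨π, rfl⟩
        exact ⟨π.1, π.2, rfl⟩
      · rintro ⟨π, hπ, rfl⟩
        exact ⟨⟨π, hπ⟩, rfl⟩
    have horb : Nat.card O * Nat.card Qg = Nat.card Pg := by
      rw [hcardQg, ← Nat.card_prod]
      exact Nat.card_congr (MulAction.orbitProdStabilizerEquivGroup ↥Pg b)
    have hQne : Qg ≠ Pg := by
      intro h
      have h1 : π₀ ∈ Qg := by
        rw [h]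
        exact hπ₀
      exact hbm ((hmemQg π₀).1 h1).2
    have hbO : b ∈ O := (hmO b).2 ⟨1, Pg.one_mem, rfl⟩
    have hπbO : π₀ b ∈ O := (hmO _).2 ⟨π₀, hπ₀, rfl⟩
    let R : Finset (Fin n) := Finset.univ.filter (fun k => k ∈ O ∧ k ≠ b)
    have hmemR : ∀ k, k ∈ R ↔ k ∈ O ∧ k ≠ b := by
      intro k
      simp [R]
    have hRcard : R.card + 1 = Nat.card O := by
      have h1 : insert b R = Finset.univ.filter (fun k => k ∈ O) := by
        ext k
        simp only [Finset.mem_insert, hmemR, Finset.mem_filter, Finset.mem_univ, true_and]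
        constructor
        · rintro (rfl | h)
          · exact hbO
          · exact h.1
        · intro h
          by_cases hk : k = b
          · exact Or.inl hk
          · exact Or.inr ⟨h, hk⟩
      have h2 : b ∉ R := fun h => ((hmemR b).1 h).2 rfl
      rw [← Finset.card_insert_of_notMem h2, h1, Nat.card_eq_fintype_card,
        Fintype.card_subtype]
    have hT := transversal hodd hQP R (by
      intro ρ hρ r hr
      obtain ⟨hr₁, -⟩ := (hmemR r).1 hr
      obtain ⟨π, hπ, rfl⟩ := (hmO r).1 hr₁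
      obtain ⟨hρ₁, hρ₂⟩ := (hmemQg ρ).1 hρ
      have h1 := congrArg (fun t : Perm (Fin n) => t b) (hc ρ hρ₁ π hπ)
      simp only [Perm.mul_apply, hρ₂] at h1
      exact h1) (by
      intro u hu hin
      funext k
      by_cases hk : k ∈ O
      · obtain ⟨π, hπ, rfl⟩ := (hmO k).1 hk
        have h1 := hin π hπ (π b)
        have h2 : π⁻¹ (π b) = b := by simp
        rw [h2] at h1
        rw [← h1]
        exact hu b (fun h => ((hmemR b).1 h).2 rfl)
      · exact hu k (fun h => hk ((hmemR k).1 h).1))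
    have hm2 : 2 ≤ Nat.card O := by
      have h1 : b ∈ R ∨ π₀ b ∈ R := Or.inr ((hmemR _).2 ⟨hπbO, hbm⟩)
      have h2 : 0 < R.card := Finset.card_pos.2 ⟨π₀ b, (hmemR _).2 ⟨hπbO, hbm⟩⟩
      omega
    have hQlt : Nat.card Qg < Nat.card Pg := by
      rw [← horb]
      have h0 : 0 < Nat.card Qg := Nat.card_pos
      nlinarith
    obtain ⟨ih1, ih2⟩ := ih (Nat.card Qg) hQlt Qg (fun a ha c hc' => hc a (hQP ha) c (hQP hc'))
      (fun a ha => he a (hQP ha)) rfl
    set m := Nat.card O with hm
    have hmle : m ≤ 2 ^ R.card := by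
      have h1 : R.card < 2 ^ R.card := Nat.lt_two_pow_self
      omega
    have hA : 0 < Nat.card Qg * Nat.card (fixPP Pg) := Nat.mul_pos Nat.card_pos Nat.card_pos
    have hchain : Nat.card Pg * Nat.card (fixPP Pg) ≤ 2 ^ R.card * (Nat.card Qg * Nat.card (fixPP Pg)) := by
      rw [← horb, mul_assoc]
      exact Nat.mul_le_mul_right _ hmle
    have hchain2 : 2 ^ R.card * (Nat.card Qg * Nat.card (fixPP Pg)) ≤ Nat.card Qg * Nat.card (fixPP Qg) := by
      calc 2 ^ R.card * (Nat.card Qg * Nat.card (fixPP Pg))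
          = Nat.card Qg * (2 ^ R.card * Nat.card (fixPP Pg)) := by ring
        _ ≤ _ := Nat.mul_le_mul_left _ hT
    refine ⟨hchain.trans (hchain2.trans ih1), fun heq => ?_⟩
    right
    have hQeq : Nat.card Qg * Nat.card (fixPP Qg) = Nat.card (evenS n) :=
      le_antisymm ih1 (by
        rw [← heq]
        exact hchain.trans hchain2)
    have hmeq : m = 2 ^ R.card := by
      have h1 : m * (Nat.card Qg * Nat.card (fixPP Pg)) = 2 ^ R.card * (Nat.card Qg * Nat.card (fixPP Pg)) := by
        apply le_antisymm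
        · exact Nat.mul_le_mul_right _ hmle
        · calc 2 ^ R.card * (Nat.card Qg * Nat.card (fixPP Pg)) ≤ Nat.card (evenS n) := hchain2.trans ih1
            _ = Nat.card Pg * Nat.card (fixPP Pg) := heq.symm
            _ = _ := by
              rw [← horb]
              ring
      exact Nat.eq_of_mul_eq_mul_right hA h1
    rcases ih2 hQeq with hbot | ⟨a, c, hac, hs⟩
    · -- `Qg` is trivial and `m = 2`
      have hm2' : m = 2 := by
        by_contra hne2
        have h3 : 3 ≤ m := by omega
        have h4 := lt_two_pow_pred m h3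
        have h5 : R.card = m - 1 := by omega
        rw [h5] at hmeq
        omega
      have hPcard : Nat.card Pg = 2 := by
        rw [← horb, hbot, Subgroup.card_bot, mul_one]
        exact hm2'
      have hinv2 : ∀ i, π₀ (π₀ i) = i := fun i => by
        have := congrArg (fun t : Perm (Fin n) => t i) (he π₀ hπ₀)
        simpa [pow_two] using this
      refine ⟨b, π₀ b, Ne.symm hbm, ?_⟩
      have hswap : π₀ = swap b (π₀ b) := by
        by_contra hns
        obtain ⟨d, hd⟩ : ∃ d, π₀ d ≠ swap b (π₀ b) d := by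
          by_contra hcon
          push_neg at hcon
          exact hns (Equiv.ext hcon)
        have hdb : d ≠ b := by
          rintro rfl
          simp at hd
        have hdπ : d ≠ π₀ b := by
          rintro rfl
          simp [hinv2] at hd
        rw [swap_apply_of_ne_of_ne hdb hdπ] at hd
        have hT2 := transversal hodd (bot_le : (⊥ : Subgroup (Perm (Fin n))) ≤ Pg) ({b, d} : Finset (Fin n)) (by
          intro ρ hρ r _
          rw [Subgroup.mem_bot] at hρ
          rw [hρ]
          rfl) (by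
          intro u hu hin
          have hinvb : π₀⁻¹ = π₀ := by
            rw [inv_eq_iff_mul_eq_one, ← pow_two]
            exact he π₀ hπ₀
          have hval : ∀ k, u (π₀ k) = u k := by
            intro k
            have := hin π₀ hπ₀ k
            rwa [hinvb] at this
          have hub : u b = 0 := by
            rw [← hval b]
            apply hu
            simp only [Finset.mem_insert, Finset.mem_singleton, not_or]
            exact ⟨hbm, Ne.symm hdπ⟩
          have hud : u d = 0 := by
            rw [← hval d]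
            apply hu
            simp only [Finset.mem_insert, Finset.mem_singleton, not_or]
            refine ⟨?_, hd⟩
            intro h
            apply hdπ
            rw [← h, hinv2]
          funext k
          by_cases hk : k ∈ ({b, d} : Finset (Fin n))
          · simp only [Finset.mem_insert, Finset.mem_singleton] at hk
            rcases hk with rfl | rfl
            · exact hub
            · exact hud
          · exact hu k hk)
        have hcd : ({b, d} : Finset (Fin n)).card = 2 := Finset.card_pair (Ne.symm hdb)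
        rw [hcd] at hT2
        have h5 : Nat.card (fixPP (⊥ : Subgroup (Perm (Fin n)))) = Nat.card (evenS n) := by
          have h1 : fixPP (⊥ : Subgroup (Perm (Fin n))) = ⊤ := by
            rw [eq_top_iff]
            intro v _
            rw [mem_fixPP]
            intro π hπ
            rw [Subgroup.mem_bot] at hπ
            subst hπ
            exact congrArg (fun t : evenS n ≃+ evenS n => t v) (map_one (pHom n))
          rw [h1, AddSubgroup.card_top]
        rw [h5, ← heq, hPcard] at hT2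
        have h6 : 0 < Nat.card (fixPP Pg) := Nat.card_pos
        omega
      rw [← hswap]
      exact hπ₀
    · exact ⟨a, c, hac, hQP hs⟩

/-- **The even weight module.** -/
theorem perm_single (hodd : Odd n) (h5 : 5 ≤ n) (X : Subgroup (evenS n ≃+ evenS n))
    (hcomm : ∀ x ∈ X, ∀ y ∈ X, x * y = y * x) (hexp : ∀ x ∈ X, x ^ 2 = 1)
    (hnorm : ∀ x ∈ X, ∀ π, ∃ π', ∀ v, x (pAct π v) = pAct π' (x v)) :
    (∀ x ∈ X, ∃ π, ∀ v, x v = pAct π v) ∧
      Nat.card X * Nat.card (fixA X) ≤ Nat.card (evenS n) ∧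
      (Nat.card X * Nat.card (fixA X) = Nat.card (evenS n) →
        X ≠ ⊥ → ∃ a b, a ≠ b ∧ ∃ x ∈ X, ∀ v, x v = pAct (swap a b) v) := by
  have hperm : ∀ x ∈ X, ∃ π, ∀ v, x v = pAct π v := fun x hx => exists_perm hodd h5 (hnorm x hx)
  have hinj := pHom_injective (n := n) (by omega)
  let Pg : Subgroup (Perm (Fin n)) := X.comap (pHom n)
  have hmap : Pg.map (pHom n) = X := by
    apply Subgroup.map_comap_eq_self
    intro x hx
    obtain ⟨π, hπ⟩ := hperm x hx
    exact ⟨π, AddEquiv.ext fun v => (hπ v).symm⟩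
  have hcard : Nat.card Pg = Nat.card X := by
    rw [← hmap]
    exact (Subgroup.card_map_of_injective hinj).symm
  have hfix : fixPP Pg = fixA X := by
    unfold fixPP
    rw [hmap]
  obtain ⟨h1, h2⟩ := perm_count hodd Pg (by
    intro a ha b hb
    apply hinj
    rw [map_mul, map_mul]
    exact hcomm _ ha _ hb) (by
    intro a ha
    apply hinj
    rw [map_pow, map_one]
    exact hexp _ ha)
  rw [hcard, hfix] at h1 h2
  refine ⟨hperm, h1, fun heq hne => ?_⟩
  rcases h2 heq with hb | ⟨a, b, hab, hs⟩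
  · exfalso
    apply hne
    rw [← hmap, hb, Subgroup.map_bot]
  · exact ⟨a, b, hab, pHom n (swap a b), hs, fun v => rfl⟩

end count

end Cfsg.Agent.Lib.BHS.NatPerm
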