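/-
Offenders and the block structure: the members of the block structure are good.
-/
import Cfsg.Agent.Lib.BHS.SEmb
import Cfsg.Agent.Lib.BHS.NatPerm

set_option autoImplicit false
set_option linter.unusedSectionVars false
set_option linter.unusedVariables false
set_option linter.unusedSimpArgs false

namespace Cfsg.Agent.Lib.BHS.OffBlock

open Cfsg Cfsg.Agent.Lib.BHS.OffBasic Cfsg.Agent.Lib.BHS.OffStruct Cfsg.Agent.Lib.BHS.Points
  Cfsg.Agent.Lib.BHS.Pkg Cfsg.Agent.Lib.BHS.Members Cfsg.Agent.Lib.BHS.Blocks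
  Cfsg.Agent.Lib.BHS.QBig Cfsg.Agent.Lib.BHS.SL2Core Cfsg.Agent.Lib.BHS.NatSL2
  Cfsg.Agent.Lib.BHS.NatPerm Cfsg.Agent.Lib.BHS.SEmb

variable {P : Type*} [Group P] [Finite P] {W : Type*} [AddCommGroup W] [Finite W] [DistribMulAction P W]

/-- The vectors fixed modulo `Z`. -/
def dFix (Z : AddSubgroup W) (D : Subgroup P) : AddSubgroup W where
  carrier := {w | ∀ d ∈ D, d • w - w ∈ Z}
  zero_mem' := fun d _ => by simp [Z.zero_mem]
  add_mem' := by
    intro a b ha hb d hd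
    have h1 : d • (a + b) - (a + b) = (d • a - a) + (d • b - b) := by
      rw [smul_add]
      abel
    rw [h1]
    exact Z.add_mem (ha d hd) (hb d hd)
  neg_mem' := by
    intro a ha d hd
    have h1 : d • (-a) - (-a) = -(d • a - a) := by
      rw [smul_neg]
      abel
    rw [h1]
    exact Z.neg_mem (ha d hd)

theorem mem_dFix {Z : AddSubgroup W} {D : Subgroup P} {w : W} :
    w ∈ dFix Z D ↔ ∀ d ∈ D, d • w - w ∈ Z := Iff.rfl

section descent

variable {N : Type*} [AddCommGroup N] {D : Subgroup P} {Z : AddSubgroup W}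

/-- The action on a quotient. -/
theorem exists_tau (hD : ∀ d ∈ D, ∀ z ∈ Z, d • z ∈ Z) (Θ : W →+ N) (hsurj : Function.Surjective Θ)
    (hker : ∀ w, Θ w = 0 ↔ w ∈ Z) :
    ∃ τ : ↥D →* (N ≃+ N), ∀ (d : ↥D) (w : W), τ d (Θ w) = Θ ((d : P) • w) := by
  classical
  let s : N → W := Function.surjInv hsurj
  have hs : ∀ y, Θ (s y) = y := Function.surjInv_eq hsurj
  let t : ↥D → N → N := fun d y => Θ ((d : P) • s y)
  have ht : ∀ (d : ↥D) (w : W), t d (Θ w) = Θ ((d : P) • w) := by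
    intro d w
    show Θ ((d : P) • s (Θ w)) = _
    have h1 : s (Θ w) - w ∈ Z := by
      rw [← hker, map_sub, hs, sub_self]
    have h2 := hD d d.2 _ h1
    rw [← hker, smul_sub, map_sub, sub_eq_zero] at h2
    exact h2
  have hadd : ∀ (d : ↥D) (a b : N), t d (a + b) = t d a + t d b := by
    intro d a b
    obtain ⟨x, rfl⟩ := hsurj a
    obtain ⟨y, rfl⟩ := hsurj b
    rw [← map_add, ht, ht, ht, smul_add, map_add]
  have hleft : ∀ (d : ↥D) (a : N), t d⁻¹ (t d a) = a := by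
    intro d a
    obtain ⟨x, rfl⟩ := hsurj a
    rw [ht d x, ht d⁻¹, Subgroup.coe_inv, inv_smul_smul]
  have hright : ∀ (d : ↥D) (a : N), t d (t d⁻¹ a) = a := by
    intro d a
    obtain ⟨x, rfl⟩ := hsurj a
    rw [ht d⁻¹ x, ht d, Subgroup.coe_inv, smul_inv_smul]
  let τ₀ : ↥D → (N ≃+ N) := fun d =>
    { toFun := t d
      invFun := t d⁻¹
      left_inv := hleft d
      right_inv := hright d
      map_add' := hadd d }
  refine ⟨MonoidHom.mk' τ₀ ?_, ?_⟩
  · intro a b
    apply AddEquiv.ext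
    intro y
    obtain ⟨x, rfl⟩ := hsurj y
    show t (a * b) (Θ x) = t a (t b (Θ x))
    rw [ht (a * b) x, ht b x, ht a, Subgroup.coe_mul, mul_smul]
  · intro d w
    exact ht d w

variable {τ : ↥D →* (N ≃+ N)} {Θ : W →+ N}

theorem tau_relIndex (hτ : ∀ (d : ↥D) (w : W), τ d (Θ w) = Θ ((d : P) • w)) (hsurj : Function.Surjective Θ)
    (hker : ∀ w, Θ w = 0 ↔ w ∈ Z) : (modFix (P := P) Z).relIndex D = Nat.card τ.range := by
  unfold Subgroup.relIndex
  rw [← Subgroup.index_ker τ]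
  congr 1
  ext d
  rw [Subgroup.mem_subgroupOf, mem_modFix, MonoidHom.mem_ker]
  constructor
  · intro h
    apply AddEquiv.ext
    intro y
    obtain ⟨x, rfl⟩ := hsurj y
    have h1 := h x
    rw [← hker, map_sub, sub_eq_zero] at h1
    rw [hτ, h1]
    rfl
  · intro h v
    rw [← hker, map_sub, sub_eq_zero, ← hτ, h]
    rfl

theorem tau_dFix (hτ : ∀ (d : ↥D) (w : W), τ d (Θ w) = Θ ((d : P) • w))
    (hker : ∀ w, Θ w = 0 ↔ w ∈ Z) : dFix Z D = (fixA τ.range).comap Θ := by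
  ext w
  rw [AddSubgroup.mem_comap, mem_fixA, mem_dFix]
  constructor
  · rintro h _ ⟨d, rfl⟩
    have h1 := h d d.2
    rw [← hker, map_sub, sub_eq_zero] at h1
    rw [hτ, h1]
  · intro h d hd
    have h1 := h (τ ⟨d, hd⟩) ⟨_, rfl⟩
    rw [hτ] at h1
    rw [← hker, map_sub, sub_eq_zero]
    exact h1

theorem index_of_surj (hsurj : Function.Surjective Θ) (hker : ∀ w, Θ w = 0 ↔ w ∈ Z) :
    Z.index = Nat.card N := by
  have h1 : Z = Θ.ker := by
    ext w
    rw [← hker, AddMonoidHom.mem_ker]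
  rw [h1, AddSubgroup.index_ker, AddMonoidHom.range_eq_top.2 hsurj, AddSubgroup.card_top]

theorem dFix_index (hτ : ∀ (d : ↥D) (w : W), τ d (Θ w) = Θ ((d : P) • w)) (hsurj : Function.Surjective Θ)
    (hker : ∀ w, Θ w = 0 ↔ w ∈ Z) : (dFix Z D).index = (fixA τ.range).index := by
  rw [tau_dFix hτ hker]
  exact AddSubgroup.index_comap_of_surjective _ hsurj

end descent

theorem conv_le {N : Type*} [AddCommGroup N] [Finite N] (X : Subgroup (N ≃+ N)) :
    Nat.card X * Nat.card (fixA X) ≤ Nat.card N ↔ Nat.card X ≤ (fixA X).index := by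
  have h1 := (fixA X).card_mul_index
  have h2 : 0 < Nat.card (fixA X) := Nat.card_pos
  rw [← h1, mul_comm (Nat.card X)]
  exact Nat.mul_le_mul_left_iff h2

theorem conv_eq {N : Type*} [AddCommGroup N] [Finite N] (X : Subgroup (N ≃+ N)) :
    Nat.card X * Nat.card (fixA X) = Nat.card N ↔ Nat.card X = (fixA X).index := by
  have h1 := (fixA X).card_mul_index
  have h2 : 0 < Nat.card (fixA X) := Nat.card_pos
  rw [← h1, mul_comm (Nat.card X)]
  exact Nat.mul_right_inj h2.ne'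

/-- The properties of a member of the block structure used for the offenders. -/
structure GoodBlock (p : ℕ) (E : Subgroup P) (W : Type*) [AddCommGroup W] [DistribMulAction P W] : Prop where
  big : 3 ≤ (fixS W E).index
  faith : ∀ e ∈ E, e ∈ modFix (P := P) (fixS W E) → e = 1
  single : ∀ D : Subgroup P, IsEA p D → (∀ d ∈ D, cj d E = E) →
    (modFix (P := P) (fixS W E)).relIndex D ≤ (dFix (fixS W E) D).index ∧
    ((modFix (P := P) (fixS W E)).relIndex D = (dFix (fixS W E) D).index →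
      (∀ d ∈ D, ∃ e ∈ E, ∀ w : W, d • w - e • w ∈ fixS W E) ∧
      (¬ D ≤ modFix (P := P) (fixS W E) → ∀ R : Subgroup P, R ≤ E → (∀ e ∈ E, cj e R = R) →
        (∀ d ∈ D, ∀ e ∈ E, (∀ w : W, d • w - e • w ∈ fixS W E) → e ∈ R) → R = E))

theorem fix_inv {E D : Subgroup P} (hD : ∀ d ∈ D, cj d E = E) : ∀ d ∈ D, ∀ z ∈ fixS W E, d • z ∈ fixS W E := by
  intro d hd z hz
  rw [← hD d hd, mem_fixS_cj, inv_smul_smul]
  exact hz

theorem conj_mem_of {E : Subgroup P} {g e : P} (h : cj g E = E) (he : e ∈ E) : g * e * g⁻¹ ∈ E := by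
  rw [← h]
  exact conj_mem_cj he

/-- A normal subgroup of `SL₂(F)` containing a conjugate of the root group. -/
theorem sl2_normal_top {F : Type*} [Field F] [Fintype F]
    (R : Subgroup (Matrix.SpecialLinearGroup (Fin 2) F)) (hR : R.Normal)
    (c : Matrix.SpecialLinearGroup (Fin 2) F) (h : ∀ l : F, c * eU l * c⁻¹ ∈ R) : R = ⊤ := by
  have hU : ∀ l : F, eU l ∈ R := by
    intro l
    have h1 := hR.conj_mem _ (h l) c⁻¹
    have h2 : c⁻¹ * (c * eU l * c⁻¹) * c⁻¹⁻¹ = eU l := by group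
    rwa [h2] at h1
  have hL : ∀ l : F, eL l ∈ R := by
    intro l
    rw [eL_eq_conj]
    exact hR.conj_mem _ (hU _) _
  have hw : (wW : Matrix.SpecialLinearGroup (Fin 2) F) ∈ R := by
    have h1 := weyl_eq (1 : F) one_ne_zero
    rw [dT_one, mul_one] at h1
    rw [← h1]
    exact R.mul_mem (R.mul_mem (hU _) (hL _)) (hU _)
  rw [eq_top_iff]
  intro γ _
  have h1 : Subgroup.closure (Set.range (eU (F := F)) ∪ {wW}) ≤ R := by
    rw [Subgroup.closure_le]
    rintro x (⟨l, rfl⟩ | rfl)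
    · exact hU l
    · exact hw
  exact h1 (mem_closure_gens γ)

/-- A subgroup of a group `E ≃* G` whose image is everything. -/
theorem eq_of_image_top {G : Type*} [Group G] {E R : Subgroup P} (ρ : ↥E ≃* G) (hRE : R ≤ E)
    (h : (R.subgroupOf E).map ρ.toMonoidHom = ⊤) : R = E := by
  apply le_antisymm hRE
  intro e he
  have h1 : ρ ⟨e, he⟩ ∈ (R.subgroupOf E).map ρ.toMonoidHom := by
    rw [h]
    trivial
  obtain ⟨r, hr, hre⟩ := h1
  have h2 : r = ⟨e, he⟩ := ρ.injective hre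
  rw [h2] at hr
  exact hr

theorem image_normal {G : Type*} [Group G] {E R : Subgroup P} (ρ : ↥E ≃* G) (hRE : R ≤ E)
    (hn : ∀ e ∈ E, cj e R = R) : ((R.subgroupOf E).map ρ.toMonoidHom).Normal := by
  constructor
  rintro _ ⟨r, hr, rfl⟩ g
  obtain ⟨e, rfl⟩ := ρ.surjective g
  refine ⟨e * r * e⁻¹, ?_, ?_⟩
  · have hr' : (r : P) ∈ R := Subgroup.mem_subgroupOf.1 hr
    exact Subgroup.mem_subgroupOf.2 (conj_mem_of (hn e e.2) hr')
  · show ρ (e * r * e⁻¹) = ρ e * ρ r * (ρ e)⁻¹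
    rw [map_mul, map_mul, map_inv]

theorem goodBlock_of_sl2 {p n : ℕ} [hp : Fact p.Prime] {E : Subgroup P} (hn : 1 ≤ n)
    (hk : KindSL2 p n E W) : GoodBlock p E W := by
  classical
  obtain ⟨F, fF, fFt, hc, ρ, Θ, hsurj, hker, hequi⟩ := hk
  have hc' : Nat.card F = p ^ n := by
    rw [Nat.card_eq_fintype_card]
    exact hc
  have hq2 : 2 ≤ Nat.card F := by
    rw [Nat.card_eq_fintype_card]
    exact Fintype.one_lt_card
  have hZcard : (fixS W E).index = Nat.card F ^ 2 := by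
    rw [index_of_surj hsurj hker, card_n2]
  have hfaithM : ∀ e : ↥E, (∀ w : W, Θ ((e : P) • w) = Θ w) → e = 1 := by
    intro e he
    apply ρ.injective
    rw [map_one]
    apply Subtype.ext
    show (ρ e).1 = 1
    have hact : ∀ u : Fin 2 → F, (ρ e).1.mulVec u = u := by
      intro u
      obtain ⟨w, rfl⟩ := hsurj u
      rw [← hequi, he]
    ext i j
    have h5 := congrFun (hact (Pi.single j 1)) i
    rw [Matrix.mulVec_single_one] at h5
    rw [Matrix.one_apply]
    simpa [Pi.single_apply, eq_comm] using h5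
  refine ⟨?_, ?_, ?_⟩
  · rw [hZcard]
    nlinarith
  · intro e he hm
    have h1 := hfaithM ⟨e, he⟩ (fun w => by
      have := hm w
      rwa [← hker, map_sub, sub_eq_zero] at this)
    exact congrArg Subtype.val h1
  · intro D hDe hDn
    obtain ⟨τ, hτ⟩ := exists_tau (fix_inv (W := W) hDn) Θ hsurj hker
    have hX1 := tau_relIndex hτ hsurj hker
    have hX2 := dFix_index hτ hsurj hker
    have hcomm : ∀ x ∈ τ.range, ∀ y ∈ τ.range, x * y = y * x := by
      rintro _ ⟨a, rfl⟩ _ ⟨b, rfl⟩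
      rw [← map_mul, ← map_mul]
      congr 1
      exact Subtype.ext (hDe.comm a a.2 b b.2)
    have hexp : ∀ x ∈ τ.range, x ^ p = 1 := by
      rintro _ ⟨a, rfl⟩
      rw [← map_pow]
      have : a ^ p = 1 := Subtype.ext (hDe.exp a a.2)
      rw [this, map_one]
    have hnorm : ∀ x ∈ τ.range, ∀ e : Matrix.SpecialLinearGroup (Fin 2) F,
        ∃ e' : Matrix.SpecialLinearGroup (Fin 2) F, ∀ v, x (e.1.mulVec v) = e'.1.mulVec (x v) := by
      rintro _ ⟨d, rfl⟩ e
      obtain ⟨e₀, rfl⟩ := ρ.surjective e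
      have hmem : (d : P) * (e₀ : P) * (d : P)⁻¹ ∈ E := conj_mem_of (hDn d d.2) e₀.2
      refine ⟨ρ ⟨_, hmem⟩, fun v => ?_⟩
      obtain ⟨w, rfl⟩ := hsurj v
      rw [← hequi, hτ, hτ, ← hequi]
      congr 1
      show (d : P) • ((e₀ : P) • w) = ((d : P) * (e₀ : P) * (d : P)⁻¹) • ((d : P) • w)
      rw [mul_smul, mul_smul, inv_smul_smul]
    obtain ⟨h1, h2⟩ := sl2_single hc' hn τ.range hcomm hexp hnorm
    have hN : Nat.card F ^ 2 = Nat.card (Fin 2 → F) := card_n2.symm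
    rw [hN, conv_le] at h1
    rw [hN, conv_eq] at h2
    rw [hX1, hX2]
    refine ⟨h1, fun heq => ?_⟩
    obtain ⟨h3, h4⟩ := h2 heq
    have hsame : ∀ (d : ↥D) (g : ↥E), (∀ v, τ d v = (ρ g).1.mulVec v) → ∀ w : W, (d : P) • w - (g : P) • w ∈ fixS W E := by
      intro d g hg w
      rw [← hker, map_sub, sub_eq_zero, ← hτ, hg, hequi]
    refine ⟨?_, ?_⟩
    · intro d hd
      obtain ⟨e, he⟩ := h3 (τ ⟨d, hd⟩) ⟨_, rfl⟩
      obtain ⟨e₀, rfl⟩ := ρ.surjective e
      exact ⟨e₀, e₀.2, hsame ⟨d, hd⟩ e₀ he⟩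
    · intro hnle R hRE hRn hRm
      have hne : τ.range ≠ ⊥ := by
        intro hb
        apply hnle
        intro d hd
        have h5 : τ ⟨d, hd⟩ = 1 := by
          have : τ ⟨d, hd⟩ ∈ τ.range := ⟨_, rfl⟩
          rw [hb] at this
          exact this
        intro v
        rw [← hker, map_sub, sub_eq_zero]
        have h6 := hτ ⟨d, hd⟩ v
        rw [h5] at h6
        exact h6.symm
      obtain ⟨c, hc₁⟩ := h4 hne
      apply eq_of_image_top ρ hRE
      apply sl2_normal_top _ (image_normal ρ hRE hRn) c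
      intro l
      obtain ⟨_, ⟨d, rfl⟩, hx⟩ := hc₁ l
      obtain ⟨e₀, he₀⟩ := ρ.surjective (c * eU l * c⁻¹)
      refine ⟨e₀, Subgroup.mem_subgroupOf.2 ?_, he₀⟩
      apply hRm d d.2 e₀ e₀.2
      apply hsame d e₀
      intro v
      rw [hx, he₀]

/-- A normal subgroup of the symmetric group containing a transposition. -/
theorem perm_normal_top {n : ℕ} (R : Subgroup (Equiv.Perm (Fin n))) (hR : R.Normal) {a b : Fin n}
    (hab : a ≠ b) (h : Equiv.swap a b ∈ R) : R = ⊤ := by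
  rw [eq_top_iff, ← Equiv.Perm.closure_isSwap, Subgroup.closure_le]
  rintro _ ⟨c, d, hcd, rfl⟩
  obtain ⟨g, hg⟩ := isConj_iff.1 (Equiv.Perm.isConj_swap hab hcd)
  rw [← hg]
  exact hR.conj_mem _ h g

theorem three_le_card_evenS {n : ℕ} (hn : 3 ≤ n) : 3 ≤ Nat.card (evenS n) := by
  let i₀ : Fin n := ⟨0, by omega⟩
  let i₁ : Fin n := ⟨1, by omega⟩
  let i₂ : Fin n := ⟨2, by omega⟩
  have h01 : i₀ ≠ i₁ := by simp [i₀, i₁, Fin.ext_iff]
  have h02 : i₀ ≠ i₂ := by simp [i₀, i₂, Fin.ext_iff]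
  have h12 : i₁ ≠ i₂ := by simp [i₁, i₂, Fin.ext_iff]
  let f : Fin 3 → evenS n := ![0, yE i₀ i₁, yE i₀ i₂]
  have hf : Function.Injective f := by
    have a1 : (yE i₀ i₁ : evenS n) ≠ 0 := by
      intro h
      have h1 := congrFun (congrArg Subtype.val h) i₀
      rw [yE_val, yy_left h01] at h1
      exact one_ne_zero h1
    have a2 : (yE i₀ i₂ : evenS n) ≠ 0 := by
      intro h
      have h1 := congrFun (congrArg Subtype.val h) i₀
      rw [yE_val, yy_left h02] at h1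
      exact one_ne_zero h1
    have a3 : (yE i₀ i₁ : evenS n) ≠ yE i₀ i₂ := by
      intro h
      have h1 := congrFun (congrArg Subtype.val h) i₁
      rw [yE_val, yE_val, yy_right h01, yy_other (Ne.symm h01) h12] at h1
      exact one_ne_zero h1
    intro x y hxy
    fin_cases x <;> fin_cases y <;> simp [f] at hxy ⊢ <;>
      first
        | exact absurd hxy a1
        | exact absurd hxy.symm a1
        | exact absurd hxy a2
        | exact absurd hxy.symm a2
        | exact absurd hxy a3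
        | exact absurd hxy.symm a3
  have := Nat.card_le_card_of_injective f hf
  simpa using this

theorem goodBlock_of_perm' {n : ℕ} {E : Subgroup P} (h5 : 5 ≤ n) (hodd : Odd n)
    (hk : KindPerm n E W) : GoodBlock 2 E W := by
  classical
  obtain ⟨ρ, Θ₀, hsum, hsurj₀, hker₀, hequi₀⟩ := hk
  let Θ : W →+ evenS n :=
    { toFun := fun w => ⟨Θ₀ w, hsum w⟩
      map_zero' := Subtype.ext (map_zero Θ₀)
      map_add' := fun a b => Subtype.ext (map_add Θ₀ a b) }
  have hΘ : ∀ w, (Θ w).1 = Θ₀ w := fun _ => rfl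
  have hsurj : Function.Surjective Θ := by
    rintro ⟨v, hv⟩
    obtain ⟨w, hw⟩ := hsurj₀ v hv
    exact ⟨w, Subtype.ext hw⟩
  have hker : ∀ w, Θ w = 0 ↔ w ∈ fixS W E := by
    intro w
    rw [← hker₀]
    exact ⟨fun h => congrArg Subtype.val h, fun h => Subtype.ext h⟩
  have hequi : ∀ (g : ↥E) (w : W), Θ ((g : P) • w) = pAct (ρ g) (Θ w) := by
    intro g w
    apply Subtype.ext
    funext i
    exact hequi₀ g w i
  refine ⟨?_, ?_, ?_⟩
  · rw [index_of_surj hsurj hker]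
    exact three_le_card_evenS (by omega)
  · intro e he hm
    have h1 : ρ ⟨e, he⟩ = 1 := by
      apply pAct_eq_self_imp (by omega)
      intro v
      obtain ⟨w, rfl⟩ := hsurj v
      rw [← hequi]
      have := hm w
      rwa [← hker, map_sub, sub_eq_zero] at this
    have h2 : (⟨e, he⟩ : ↥E) = 1 := ρ.injective (by rw [h1, map_one])
    exact congrArg Subtype.val h2
  · intro D hDe hDn
    obtain ⟨τ, hτ⟩ := exists_tau (fix_inv (W := W) hDn) Θ hsurj hker
    have hX1 := tau_relIndex hτ hsurj hker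
    have hX2 := dFix_index hτ hsurj hker
    have hcomm : ∀ x ∈ τ.range, ∀ y ∈ τ.range, x * y = y * x := by
      rintro _ ⟨a, rfl⟩ _ ⟨b, rfl⟩
      rw [← map_mul, ← map_mul]
      congr 1
      exact Subtype.ext (hDe.comm a a.2 b b.2)
    have hexp : ∀ x ∈ τ.range, x ^ 2 = 1 := by
      rintro _ ⟨a, rfl⟩
      rw [← map_pow]
      have : a ^ 2 = 1 := Subtype.ext (hDe.exp a a.2)
      rw [this, map_one]
    have hnorm : ∀ x ∈ τ.range, ∀ π, ∃ π', ∀ v, x (pAct π v) = pAct π' (x v) := by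
      rintro _ ⟨d, rfl⟩ e
      obtain ⟨e₀, rfl⟩ := ρ.surjective e
      have hmem : (d : P) * (e₀ : P) * (d : P)⁻¹ ∈ E := conj_mem_of (hDn d d.2) e₀.2
      refine ⟨ρ ⟨_, hmem⟩, fun v => ?_⟩
      obtain ⟨w, rfl⟩ := hsurj v
      rw [← hequi, hτ, hτ, ← hequi]
      congr 1
      show (d : P) • ((e₀ : P) • w) = ((d : P) * (e₀ : P) * (d : P)⁻¹) • ((d : P) • w)
      rw [mul_smul, mul_smul, inv_smul_smul]
    obtain ⟨h3, h1, h2⟩ := perm_single hodd h5 τ.range hcomm hexp hnorm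
    rw [conv_le] at h1
    rw [conv_eq] at h2
    rw [hX1, hX2]
    have hsame : ∀ (d : ↥D) (g : ↥E), (∀ v, τ d v = pAct (ρ g) v) → ∀ w : W, (d : P) • w - (g : P) • w ∈ fixS W E := by
      intro d g hg w
      rw [← hker, map_sub, sub_eq_zero, ← hτ, hg, hequi]
    refine ⟨h1, fun heq => ⟨?_, ?_⟩⟩
    · intro d hd
      obtain ⟨e, he⟩ := h3 (τ ⟨d, hd⟩) ⟨_, rfl⟩
      obtain ⟨e₀, rfl⟩ := ρ.surjective e
      exact ⟨e₀, e₀.2, hsame ⟨d, hd⟩ e₀ he⟩
    · intro hnle R hRE hRn hRm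
      have hne : τ.range ≠ ⊥ := by
        intro hb
        apply hnle
        intro d hd
        have h5 : τ ⟨d, hd⟩ = 1 := by
          have : τ ⟨d, hd⟩ ∈ τ.range := ⟨_, rfl⟩
          rw [hb] at this
          exact this
        intro v
        rw [← hker, map_sub, sub_eq_zero]
        have h6 := hτ ⟨d, hd⟩ v
        rw [h5] at h6
        exact h6.symm
      obtain ⟨a, b, hab, _, ⟨d, rfl⟩, hx⟩ := h2 heq hne
      apply eq_of_image_top ρ hRE
      apply perm_normal_top _ (image_normal ρ hRE hRn) hab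
      obtain ⟨e₀, he₀⟩ := ρ.surjective (Equiv.swap a b)
      refine ⟨e₀, Subgroup.mem_subgroupOf.2 ?_, he₀⟩
      apply hRm d d.2 e₀ e₀.2
      apply hsame d e₀
      intro v
      rw [hx, he₀]

theorem goodBlock_of_perm {k : ℕ} {E : Subgroup P} (hk2 : 2 ≤ k)
    (hk : KindPerm (2 ^ k + 1) E W) : GoodBlock 2 E W := by
  have h5 : 5 ≤ 2 ^ k + 1 := by
    have : 2 ^ 2 ≤ 2 ^ k := Nat.pow_le_pow_right (by norm_num) hk2
    omega
  have hodd : Odd (2 ^ k + 1) := by
    refine ⟨2 ^ (k - 1), ?_⟩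
    have h1 : 2 ^ k = 2 * 2 ^ (k - 1) := by
      rw [← pow_succ']
      congr 1
      omega
    omega
  exact goodBlock_of_perm' h5 hodd hk

end Cfsg.Agent.Lib.BHS.OffBlock
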