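/-
Offenders and the block structure: the counting argument.
-/
import Cfsg.Agent.Lib.BHS.OffBlock

set_option autoImplicit false
set_option linter.unusedSectionVars false
set_option linter.unusedVariables false
set_option linter.unusedSimpArgs false

namespace Cfsg.Agent.Lib.BHS.OffCount

open Cfsg Cfsg.Agent.Lib.BHS.OffBasic Cfsg.Agent.Lib.BHS.OffStruct Cfsg.Agent.Lib.BHS.Points
  Cfsg.Agent.Lib.BHS.Pkg Cfsg.Agent.Lib.BHS.Members Cfsg.Agent.Lib.BHS.Blocks
  Cfsg.Agent.Lib.BHS.QBig Cfsg.Agent.Lib.BHS.OffBlock Cfsg.Agent.Lib.BHS.Reduce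
  Cfsg.Agent.Lib.BHS.ModMain Cfsg.Agent.Lib.Core.Basic

open scoped Classical

variable {P : Type*} [Group P] [Finite P] {W : Type*} [AddCommGroup W] [Finite W] [DistribMulAction P W]
  {p : ℕ} [hp : Fact p.Prime] {ι : Type*} [Fintype ι] {S : Subgroup P} {E : ι → Subgroup P}

/-- The intersection of the fixed points. -/
noncomputable def zQ (W : Type*) [AddCommGroup W] [DistribMulAction P W] (E : ι → Subgroup P) (Q : Finset ι) :
    AddSubgroup W := ⨅ i ∈ Q, fixS W (E i)

theorem mem_zQ {Q : Finset ι} {w : W} : w ∈ zQ W E Q ↔ ∀ i ∈ Q, w ∈ fixS W (E i) := by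
  simp [zQ, AddSubgroup.mem_iInf]

theorem zQ_empty : zQ W E ∅ = ⊤ := by
  simp [zQ]

theorem zQ_singleton (i : ι) : zQ W E {i} = fixS W (E i) := by
  simp [zQ]

theorem zQ_union (Q Q' : Finset ι) : zQ W E (Q ∪ Q') = zQ W E Q ⊓ zQ W E Q' := by
  ext w
  simp only [mem_zQ, AddSubgroup.mem_inf, Finset.mem_union]
  constructor
  · intro h
    exact ⟨fun i hi => h i (Or.inl hi), fun i hi => h i (Or.inr hi)⟩
  · rintro ⟨h1, h2⟩ i (hi | hi)
    · exact h1 i hi
    · exact h2 i hi

theorem modFix_inf (Z₁ Z₂ : AddSubgroup W) :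
    modFix (P := P) (Z₁ ⊓ Z₂) = modFix (P := P) Z₁ ⊓ modFix (P := P) Z₂ := by
  ext g
  simp only [Subgroup.mem_inf, mem_modFix, AddSubgroup.mem_inf, forall_and]

theorem dFix_inf (Z₁ Z₂ : AddSubgroup W) (D : Subgroup P) :
    dFix (Z₁ ⊓ Z₂) D = dFix Z₁ D ⊓ dFix Z₂ D := by
  ext g
  simp only [AddSubgroup.mem_inf, mem_dFix, forall_and]

theorem index_inf_of_sup (X Y : AddSubgroup W) (hs : X ⊔ Y = ⊤) : (X ⊓ Y).index = X.index * Y.index := by
  rw [← AddSubgroup.relIndex_mul_index (inf_le_left : X ⊓ Y ≤ X), AddSubgroup.inf_relIndex_left,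
    ← AddSubgroup.relIndex_sup_right X Y, hs, AddSubgroup.relIndex_top_right, mul_comm]

section blocks

variable (h : Blocks p S W E)
include h

theorem com_le {i j : ι} (hij : i ≠ j) : comS W (E j) ≤ fixS W (E i) := comS_le (h.quad i j hij)

theorem zQ_sup (Q Q' : Finset ι) (hd : Disjoint Q Q') : zQ W E Q ⊔ zQ W E Q' = ⊤ := by
  induction Q' using Finset.induction_on with
  | empty =>
    rw [zQ_empty, sup_top_eq]
  | insert j Q' hj ih =>
    have hjQ : j ∉ Q := fun hq => (Finset.disjoint_left.1 hd hq) (Finset.mem_insert_self j Q')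
    have hd' : Disjoint Q Q' := Finset.disjoint_of_subset_right (Finset.subset_insert j Q') hd
    rw [eq_top_iff]
    intro v _
    have hv : v ∈ zQ W E Q ⊔ zQ W E Q' := by
      rw [ih hd']
      trivial
    obtain ⟨a, ha, b, hb, rfl⟩ := AddSubgroup.mem_sup.1 hv
    have hbm : b ∈ fixS W (E j) ⊔ comS W (E j) := by
      rw [h.split j]
      trivial
    obtain ⟨c, hc, y, hy, rfl⟩ := AddSubgroup.mem_sup.1 hbm
    have hyQ : y ∈ zQ W E Q := mem_zQ.2 fun i hi =>
      com_le h (i := i) (j := j) (fun he => hjQ (he ▸ hi)) hy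
    have hyQ' : y ∈ zQ W E Q' := mem_zQ.2 fun i hi =>
      com_le h (i := i) (j := j) (fun he => hj (he ▸ hi)) hy
    have h1 : a + (c + y) = (a + y) + c := by abel
    rw [h1]
    refine AddSubgroup.add_mem _ (AddSubgroup.mem_sup_left (AddSubgroup.add_mem _ ha hyQ))
      (AddSubgroup.mem_sup_right ?_)
    rw [mem_zQ]
    intro i hi
    rcases Finset.mem_insert.1 hi with rfl | hi
    · exact hc
    · have h2 : c = (c + y) - y := by abel
      rw [h2]
      exact AddSubgroup.sub_mem _ (mem_zQ.1 hb i hi) (mem_zQ.1 hyQ' i hi)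

theorem three_pow_le (hgood : ∀ i, GoodBlock p (E i) W) (Q : Finset ι) : 3 ^ Q.card ≤ (zQ W E Q).index := by
  induction Q using Finset.induction_on with
  | empty =>
    rw [zQ_empty, AddSubgroup.index_top]
    simp
  | insert j Q hj ih =>
    have h1 : insert j Q = {j} ∪ Q := rfl
    have hd : Disjoint ({j} : Finset ι) Q := Finset.disjoint_singleton_left.2 hj
    rw [h1, zQ_union, index_inf_of_sup _ _ (zQ_sup h _ _ hd), zQ_singleton,
      ← h1, Finset.card_insert_of_notMem hj, pow_succ, mul_comm (3 ^ Q.card)]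
    exact Nat.mul_le_mul (hgood j).big ih

theorem E_inj (hgood : ∀ i, GoodBlock p (E i) W) {i j : ι} (he : E i = E j) : i = j := by
  by_contra hij
  have h1 : comS W (E j) ≤ fixS W (E j) := by
    have := com_le h hij
    rwa [he] at this
  have h2 := h.split j
  rw [sup_eq_left.2 h1] at h2
  have h3 := (hgood j).big
  rw [h2, AddSubgroup.index_top] at h3
  omega

end blocks

theorem fix_trans {g : P} {X Y : Subgroup P} (h : cj g X = Y) {w : W} :
    w ∈ fixS W X ↔ g • w ∈ fixS W Y := by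
  subst h
  rw [mem_fixS_cj, inv_smul_smul]

section orbit

variable {B : Subgroup P}

/-- The orbit of a member under `B`. -/
noncomputable def orb (B : Subgroup P) (E : ι → Subgroup P) (i : ι) : Finset ι :=
  Finset.univ.filter (fun j => ∃ b ∈ B, cj b (E i) = E j)

theorem mem_orb {i j : ι} : j ∈ orb B E i ↔ ∃ b ∈ B, cj b (E i) = E j := by
  simp [orb]

theorem self_mem_orb (i : ι) : i ∈ orb B E i := mem_orb.2 ⟨1, B.one_mem, cj_one _⟩

/-- Invariant sets of members. -/
def InvQ (B : Subgroup P) (E : ι → Subgroup P) (Q : Finset ι) : Prop :=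
  ∀ i ∈ Q, ∀ b ∈ B, ∀ j, cj b (E i) = E j → j ∈ Q

theorem orb_inv (i : ι) : InvQ B E (orb B E i) := by
  intro j hj b hb k hk
  obtain ⟨b₁, hb₁, he⟩ := mem_orb.1 hj
  refine mem_orb.2 ⟨b * b₁, B.mul_mem hb hb₁, ?_⟩
  rw [← cj_cj, he, hk]

theorem orb_subset {Q : Finset ι} (hQ : InvQ B E Q) {i : ι} (hi : i ∈ Q) : orb B E i ⊆ Q := by
  intro j hj
  obtain ⟨b, hb, he⟩ := mem_orb.1 hj
  exact hQ i hi b hb j he

theorem diff_inv {Q : Finset ι} (hQ : InvQ B E Q) (i : ι) : InvQ B E (Q \ orb B E i) := by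
  intro j hj b hb k hk
  obtain ⟨hj₁, hj₂⟩ := Finset.mem_sdiff.1 hj
  refine Finset.mem_sdiff.2 ⟨hQ j hj₁ b hb k hk, fun hko => hj₂ ?_⟩
  obtain ⟨b₁, hb₁, he⟩ := mem_orb.1 hko
  refine mem_orb.2 ⟨b⁻¹ * b₁, B.mul_mem (B.inv_mem hb) hb₁, ?_⟩
  rw [← cj_cj, he, ← hk, cj_inv_cj]

variable (hBp : ∀ b ∈ B, ∀ i, ∃ j, cj b (E i) = E j)
include hBp

theorem zQ_inv {Q : Finset ι} (hQ : InvQ B E Q) {b : P} (hb : b ∈ B) {z : W} (hz : z ∈ zQ W E Q) :
    b • z ∈ zQ W E Q := by
  rw [mem_zQ]
  intro j hj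
  obtain ⟨i, hi⟩ := hBp b⁻¹ (B.inv_mem hb) j
  have hiQ : i ∈ Q := hQ j hj _ (B.inv_mem hb) i hi
  have h1 : cj b (E i) = E j := by
    rw [← hi, cj_cj_inv]
  exact (fix_trans h1).1 (mem_zQ.1 hz i hiQ)

theorem zQ_le_dFix {Q : Finset ι} (hQ : InvQ B E Q) : zQ W E Q ≤ dFix (zQ W E Q) B := by
  intro z hz b hb
  exact AddSubgroup.sub_mem _ (zQ_inv hBp hQ hb hz) hz

omit hBp in
theorem lt_three_pow : ∀ m : ℕ, 2 ≤ m → m < 3 ^ (m - 1) := by
  intro m hm
  induction m, hm using Nat.le_induction with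
  | base => norm_num
  | succ k hk ih =>
    have h1 : k + 1 - 1 = (k - 1) + 1 := by omega
    rw [h1, pow_succ]
    omega

theorem orbit_step (h : Blocks p S W E) (hgood : ∀ i, GoodBlock p (E i) W) (hBe : IsEA p B) (i : ι) :
    (modFix (P := P) (zQ W E (orb B E i))).relIndex B ≤ (dFix (zQ W E (orb B E i)) B).index ∧
      (2 ≤ (orb B E i).card →
        (modFix (P := P) (zQ W E (orb B E i))).relIndex B < (dFix (zQ W E (orb B E i)) B).index) := by
  set O := orb B E i with hO
  set Zi := fixS W (E i) with hZi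
  set Zo := zQ W E O with hZo
  have hiO : i ∈ O := self_mem_orb i
  have hZoZi : Zo ≤ Zi := fun w hw => mem_zQ.1 hw i hiO
  have hZoj : ∀ j ∈ O, Zo ≤ fixS W (E j) := fun j hj w hw => mem_zQ.1 hw j hj
  set M : Subgroup P := modFix (P := P) Zi with hM
  set Bs : Subgroup P := B ⊓ Subgroup.normalizer (E i : Set P) with hBs
  have hBsB : Bs ≤ B := inf_le_left
  have hBsN : ∀ d ∈ Bs, cj d (E i) = E i := fun d hd => mem_normalizer_iff_cj.1 hd.2
  have hBse : IsEA p Bs := ea_mono hBe hBsB
  have hT1 : ∀ b ∈ B, b ∈ modFix (P := P) Zo → b ∈ Bs := by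
    intro b hb hm
    refine ⟨hb, mem_normalizer_iff_cj.2 ?_⟩
    obtain ⟨j, hj⟩ := hBp b hb i
    have hjO : j ∈ O := mem_orb.2 ⟨b, hb, hj⟩
    by_contra hne
    rw [hj] at hne
    have hij : j ≠ i := by
      rintro rfl
      exact hne rfl
    have h1 : comS W (E i) ≤ Zi := by
      intro y hy
      have hyj : y ∈ fixS W (E j) := com_le h hij hy
      have h2 : b • y - y ∈ fixS W (E j) := hZoj j hjO (hm y)
      have h3 : b • y ∈ fixS W (E j) := by
        have : b • y = (b • y - y) + y := by abel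
        rw [this]
        exact AddSubgroup.add_mem _ h2 hyj
      exact (fix_trans hj).2 h3
    have h2 : Zi = ⊤ := by
      have h2 := h.split i
      rwa [sup_eq_left.2 h1] at h2
    have h3 : 3 ≤ Zi.index := (hgood i).big
    rw [h2, AddSubgroup.index_top] at h3
    omega
  have heq : B ⊓ modFix (P := P) Zo = Bs ⊓ M := by
    apply le_antisymm
    · rintro b ⟨hb, hm⟩
      exact ⟨hT1 b hb hm, fun w => hZoZi (hm w)⟩
    · rintro b₀ ⟨hb₀, hm⟩
      refine ⟨hBsB hb₀, fun w => mem_zQ.2 fun j hj => ?_⟩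
      obtain ⟨b, hb, he⟩ := mem_orb.1 hj
      have h1 := (fix_trans he).1 (hm (b⁻¹ • w))
      have h2 : b • (b₀ • b⁻¹ • w - b⁻¹ • w) = b₀ • w - w := by
        rw [smul_sub, smul_inv_smul, ← mul_smul, ← mul_smul, hBe.comm b hb b₀ (hBsB hb₀), mul_smul,
          mul_smul, smul_inv_smul]
      rwa [h2] at h1
  have hidx : Bs.relIndex B ≤ O.card := by
    have hf : ∀ b : ↥B, ∃ j : ↥O, cj (b : P) (E i) = E j := by
      intro b
      obtain ⟨j, hj⟩ := hBp b b.2 i
      exact ⟨⟨j, mem_orb.2 ⟨b, b.2, hj⟩⟩, hj⟩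
    choose f hf using hf
    have hcard : O.card = Nat.card ↥O := by
      rw [Nat.card_eq_fintype_card, Fintype.card_coe]
    rw [hcard]
    unfold Subgroup.relIndex Subgroup.index
    refine Nat.card_le_card_of_injective (fun q => f q.out) ?_
    intro q q' hqq
    have h1 : f q.out = f q'.out := hqq
    have h2 : cj ((q.out : ↥B) : P) (E i) = cj ((q'.out : ↥B) : P) (E i) := by
      rw [hf, hf, h1]
    have h3 : (q.out)⁻¹ * q'.out ∈ Bs.subgroupOf B := by
      rw [Subgroup.mem_subgroupOf]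
      refine ⟨((q.out)⁻¹ * q'.out).2, mem_normalizer_iff_cj.2 ?_⟩
      push_cast
      rw [← cj_cj, ← h2, cj_inv_cj]
    have h4 : (QuotientGroup.mk q.out : ↥B ⧸ Bs.subgroupOf B) = QuotientGroup.mk q'.out :=
      QuotientGroup.eq.2 h3
    rwa [QuotientGroup.out_eq', QuotientGroup.out_eq'] at h4
  have hrel : (modFix (P := P) Zo).relIndex B = M.relIndex Bs * Bs.relIndex B := by
    rw [← Subgroup.inf_relIndex_right (modFix (P := P) Zo) B, inf_comm, heq,
      ← Subgroup.relIndex_mul_relIndex (Bs ⊓ M) Bs B inf_le_left hBsB, Subgroup.inf_relIndex_left]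
  obtain ⟨h5, -⟩ := (hgood i).single Bs hBse hBsN
  by_cases hm2 : 2 ≤ O.card
  · have hstrict : (modFix (P := P) Zo).relIndex B < (dFix Zo B).index := by
      set Di := dFix Zi Bs with hDi
      set C' := dFix Zo B with hC'
      have hC'Di : C' ≤ Di := fun w hw d hd => hZoZi (hw d (hBsB hd))
      have hZoC' : Zo ≤ C' := zQ_le_dFix hBp (orb_inv i)
      have hinter : Zo = C' ⊓ Zi := by
        apply le_antisymm (le_inf hZoC' hZoZi)
        rintro w ⟨hw₁, hw₂⟩
        refine mem_zQ.2 fun j hj => ?_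
        obtain ⟨b, hb, he⟩ := mem_orb.1 hj
        have h1 : b • w - w ∈ fixS W (E j) := hZoj j hj (hw₁ b hb)
        have h2 : b • w ∈ fixS W (E j) := (fix_trans he).1 hw₂
        have h3 : w = b • w - (b • w - w) := by abel
        rw [h3]
        exact AddSubgroup.sub_mem _ h2 h1
      have hd : Zo.relIndex C' = Zi.relIndex C' := by
        rw [hinter]
        exact AddSubgroup.inf_relIndex_left _ _
      have hne : Zi.relIndex Di ≠ 0 := AddSubgroup.index_ne_zero_of_finite
      have he : Zi.relIndex C' ≤ Zi.relIndex Di := AddSubgroup.relIndex_le_of_le_right hC'Di hne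
      have hZiDi : Zi ≤ Di := fun z hz d hd =>
        AddSubgroup.sub_mem _ (fix_inv (fun d hd => hBsN d hd) d hd z hz) hz
      have hf := AddSubgroup.relIndex_mul_index hZiDi
      have hc := AddSubgroup.relIndex_mul_index hZoC'
      rw [hd] at hc
      have hOe : O = {i} ∪ O.erase i := by
        rw [← Finset.insert_eq, Finset.insert_erase hiO]
      have hdis : Disjoint ({i} : Finset ι) (O.erase i) := by
        rw [Finset.disjoint_singleton_left]
        exact Finset.notMem_erase i O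
      have hg : Zo.index = Zi.index * (zQ W E (O.erase i)).index := by
        have h1 : Zo = Zi ⊓ zQ W E (O.erase i) := by
          rw [hZo]
          conv_lhs => rw [hOe]
          rw [zQ_union, zQ_singleton]
        have h2 : Zi ⊔ zQ W E (O.erase i) = ⊤ := by
          have := zQ_sup h _ _ hdis
          rwa [zQ_singleton] at this
        rw [h1, index_inf_of_sup _ _ h2]
      have hz3 := three_pow_le h hgood (O.erase i)
      have hcarde : (O.erase i).card = O.card - 1 := Finset.card_erase_of_mem hiO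
      rw [hcarde] at hz3
      have hz4 := lt_three_pow O.card hm2
      have hmz : O.card < (zQ W E (O.erase i)).index := lt_of_lt_of_le hz4 hz3
      set a := Zi.relIndex C' with ha
      set r := Zi.relIndex Di with hr
      set x := Di.index with hx
      set y := C'.index with hy
      set n := Zi.index with hn
      set z := (zQ W E (O.erase i)).index with hz
      have ha0 : 0 < a := Nat.pos_of_ne_zero AddSubgroup.index_ne_zero_of_finite
      have hx0 : 0 < x := Nat.pos_of_ne_zero AddSubgroup.index_ne_zero_of_finite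
      have h6 : a * y = r * x * z := by
        rw [hc, hf, hg]
      have h7 : x * z ≤ y := by
        apply Nat.le_of_mul_le_mul_left _ ha0
        rw [h6, mul_assoc]
        exact Nat.mul_le_mul_right _ he
      calc (modFix (P := P) Zo).relIndex B = M.relIndex Bs * Bs.relIndex B := hrel
        _ ≤ x * O.card := Nat.mul_le_mul h5 hidx
        _ < x * z := Nat.mul_lt_mul_of_pos_left hmz hx0
        _ ≤ y := h7
    exact ⟨le_of_lt hstrict, fun _ => hstrict⟩
  · have hcard1 : O = {i} := by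
      have h1 : O.card = 1 := by
        have : 0 < O.card := Finset.card_pos.2 ⟨i, hiO⟩
        omega
      obtain ⟨a, ha⟩ := Finset.card_eq_one.1 h1
      rw [ha] at hiO ⊢
      rw [Finset.mem_singleton.1 hiO]
    have hZoeq : Zo = Zi := by
      rw [hZo, hcard1, zQ_singleton]
    have hall : ∀ b ∈ B, cj b (E i) = E i := by
      intro b hb
      obtain ⟨j, hj⟩ := hBp b hb i
      have hjO : j ∈ O := mem_orb.2 ⟨b, hb, hj⟩
      rw [hcard1, Finset.mem_singleton] at hjO
      rw [hj, hjO]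
    obtain ⟨h6, -⟩ := (hgood i).single B hBe hall
    rw [hZoeq]
    exact ⟨h6, fun hh => absurd hh hm2⟩

theorem rel_split (h : Blocks p S W E) {Q O Q' : Finset ι} (hQ : Q = O ∪ Q') (hd : Disjoint O Q')
    (hO : InvQ B E O) (hQ' : InvQ B E Q') :
    (dFix (zQ W E Q) B).index = (dFix (zQ W E O) B).index * (dFix (zQ W E Q') B).index ∧
      (modFix (P := P) (zQ W E Q)).relIndex B ≤
        (modFix (P := P) (zQ W E O)).relIndex B * (modFix (P := P) (zQ W E Q')).relIndex B := by
  have h1 : zQ W E Q = zQ W E O ⊓ zQ W E Q' := by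
    rw [hQ, zQ_union]
  constructor
  · rw [h1, dFix_inf]
    apply index_inf_of_sup
    rw [eq_top_iff, ← zQ_sup h O Q' hd]
    exact sup_le_sup (zQ_le_dFix hBp hO) (zQ_le_dFix hBp hQ')
  · rw [h1, modFix_inf]
    exact Subgroup.relIndex_inf_le

theorem rel_le (h : Blocks p S W E) (hgood : ∀ i, GoodBlock p (E i) W) (hBe : IsEA p B) (Q : Finset ι)
    (hQ : InvQ B E Q) :
    (modFix (P := P) (zQ W E Q)).relIndex B ≤ (dFix (zQ W E Q) B).index := by
  induction Q using Finset.strongInduction with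
  | H Q ih =>
    by_cases hne : Q.Nonempty
    · obtain ⟨i, hi⟩ := hne
      have hsub := orb_subset hQ hi
      have hU : Q = orb B E i ∪ (Q \ orb B E i) := (Finset.union_sdiff_of_subset hsub).symm
      have hd : Disjoint (orb B E i) (Q \ orb B E i) := Finset.disjoint_sdiff
      obtain ⟨h1, h2⟩ := rel_split hBp h hU hd (orb_inv i) (diff_inv hQ i)
      have hss : Q \ orb B E i ⊂ Q := by
        refine Finset.ssubset_iff_subset_ne.2 ⟨Finset.sdiff_subset, fun he => ?_⟩
        have := Finset.mem_sdiff.1 (he.symm ▸ hi)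
        exact this.2 (self_mem_orb i)
      have h3 := ih _ hss (diff_inv hQ i)
      have h4 := (orbit_step hBp h hgood hBe i).1
      rw [h1]
      exact h2.trans (Nat.mul_le_mul h4 h3)
    · have hQe : Q = ∅ := Finset.not_nonempty_iff_eq_empty.1 hne
      subst hQe
      have h1 : modFix (P := P) (zQ W E (∅ : Finset ι)) = ⊤ := by
        rw [zQ_empty, eq_top_iff]
        intro g _ v
        trivial
      have h2 : dFix (zQ W E (∅ : Finset ι)) B = ⊤ := by
        rw [zQ_empty, eq_top_iff]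
        intro g _ v _
        trivial
      rw [h1, h2, Subgroup.relIndex_top_left, AddSubgroup.index_top]

/-- If a member is moved the inequality is strict. -/
theorem rel_lt (h : Blocks p S W E) (hgood : ∀ i, GoodBlock p (E i) W) (hBe : IsEA p B) (Q : Finset ι)
    (hQ : InvQ B E Q) {i : ι} (hi : i ∈ Q) (hm : 2 ≤ (orb B E i).card) :
    (modFix (P := P) (zQ W E Q)).relIndex B < (dFix (zQ W E Q) B).index := by
  have hsub := orb_subset hQ hi
  have hU : Q = orb B E i ∪ (Q \ orb B E i) := (Finset.union_sdiff_of_subset hsub).symm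
  have hd : Disjoint (orb B E i) (Q \ orb B E i) := Finset.disjoint_sdiff
  obtain ⟨h1, h2⟩ := rel_split hBp h hU hd (orb_inv i) (diff_inv hQ i)
  have h3 := rel_le hBp h hgood hBe _ (diff_inv hQ i)
  have h4 := (orbit_step hBp h hgood hBe i).2 hm
  rw [h1]
  refine lt_of_le_of_lt h2 ?_
  have h5 : 0 < (dFix (zQ W E (Q \ orb B E i)) B).index :=
    Nat.pos_of_ne_zero AddSubgroup.index_ne_zero_of_finite
  calc _ ≤ (modFix (P := P) (zQ W E (orb B E i))).relIndex B * (dFix (zQ W E (Q \ orb B E i)) B).index :=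
        Nat.mul_le_mul_left _ h3
    _ < _ := Nat.mul_lt_mul_of_pos_right h4 h5

end orbit

theorem mem_fixS_of_zQ_univ {w : W} : w ∈ zQ W E Finset.univ ↔ w ∈ fixS W (⨆ i, E i) := by
  rw [mem_zQ, mem_fixS_iSup]
  simp

/-- The block structure acts faithfully modulo the common fixed points. -/
theorem modFix_eq_bot (hS : IsPGroup p S) (h : Blocks p S W E)
    (hperm : ∀ t ∈ S, ∀ i, ∃ j, cj t (E i) = E j) (hOp : pCore p P = ⊥) (hW : ∀ w : W, p • w = 0)
    (hfaith : ∀ g : P, (∀ w : W, g • w = w) → g = 1) : modFix (P := P) (zQ W E Finset.univ) = ⊥ := by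
  set K : Subgroup P := ⨆ i, E i with hK
  set Z := zQ W E (Finset.univ : Finset ι) with hZ
  have hKn : K.Normal := by
    rw [← Subgroup.normalizer_eq_top_iff, eq_top_iff, ← h.top]
    refine sup_le Subgroup.le_normalizer ?_
    intro t ht
    rw [mem_normalizer_iff_cj]
    apply Subgroup.eq_of_le_of_card_ge
    · show K.map (MulAut.conj t).toMonoidHom ≤ K
      rw [hK, Subgroup.map_iSup]
      refine iSup_le fun i => ?_
      obtain ⟨j, hj⟩ := hperm t ht i
      have h1 : (E i).map (MulAut.conj t).toMonoidHom = E j := hj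
      rw [h1]
      exact le_iSup E j
    · rw [card_cj]
  have hZK : ∀ w, w ∈ Z ↔ w ∈ fixS W K := fun w => mem_fixS_of_zQ_univ
  have hZinv : ∀ (g : P), ∀ z ∈ Z, g • z ∈ Z := by
    intro g z hz
    rw [hZK] at hz ⊢
    have h1 : cj g K = K := cj_eq_of_normal hKn g
    exact (fix_trans h1).1 hz
  set D : Subgroup P := modFix (P := P) Z with hD
  have hDn : D.Normal := by
    constructor
    intro d hd g w
    have h1 : (g * d * g⁻¹) • w - w = g • (d • (g⁻¹ • w) - g⁻¹ • w) := by
      rw [smul_sub, smul_inv_smul, mul_smul, mul_smul]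
    rw [h1]
    exact hZinv g _ (hd _)
  have hDK : D ⊓ K = ⊥ := by
    have hn : (D ⊓ K).Normal := by
      haveI := hDn
      haveI := hKn
      infer_instance
    have hpg : IsPGroup p ↥(D ⊓ K) := by
      intro y
      refine ⟨1, Subtype.ext ?_⟩
      rw [pow_one]
      show (y : P) ^ p = 1
      apply hfaith
      intro w
      have h1 : (y : P) • w - w ∈ Z := y.2.1 w
      have h2 := pow_smul_of_fix (g := (y : P)) (y := w) rfl ((hZK _).1 h1 y y.2.2) p
      rw [h2, hW, add_zero]
    have h1 := le_pCore hn hpg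
    rw [hOp] at h1
    exact le_bot_iff.1 h1
  have hPK : IsPGroup p (P ⧸ K) := by
    refine IsPGroup.of_surjective hS ((QuotientGroup.mk' K).comp S.subtype) ?_
    intro q
    obtain ⟨g, rfl⟩ := QuotientGroup.mk_surjective q
    have hg : g ∈ K ⊔ S := by
      rw [h.top]
      trivial
    rw [Subgroup.mem_sup_of_normal_left] at hg
    obtain ⟨k, hk, s, hs, rfl⟩ := hg
    refine ⟨⟨s, hs⟩, ?_⟩
    show ((s : P) : P ⧸ K) = ((k * s : P) : P ⧸ K)
    rw [QuotientGroup.eq]
    have : s⁻¹ * (k * s) = s⁻¹ * k * s⁻¹⁻¹ := by group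
    rw [this]
    exact hKn.conj_mem _ hk _
  have hDp : IsPGroup p D := by
    refine IsPGroup.of_injective hPK ((QuotientGroup.mk' K).comp D.subtype) ?_
    rw [injective_iff_map_eq_one]
    intro d hd
    have h1 : (d : P) ∈ K := (QuotientGroup.eq_one_iff _).1 hd
    have h2 : (d : P) ∈ D ⊓ K := ⟨d.2, h1⟩
    rw [hDK] at h2
    exact Subtype.ext h2
  have h1 := le_pCore hDn hDp
  rw [hOp] at h1
  exact le_bot_iff.1 h1

theorem mem_modFix_zQ {Q : Finset ι} {g : P} :
    g ∈ modFix (P := P) (zQ W E Q) ↔ ∀ i ∈ Q, g ∈ modFix (P := P) (fixS W (E i)) := by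
  simp only [mem_modFix, mem_zQ]
  constructor
  · intro h i hi v
    exact h v i hi
  · intro h v i hi
    exact h i hi v

/-- **Offenders in the block structure.** -/
theorem offender_main {B : Subgroup P} (hS : IsPGroup p S) (h : Blocks p S W E)
    (hperm : ∀ t ∈ S, ∀ i, ∃ j, cj t (E i) = E j) (hgood : ∀ i, GoodBlock p (E i) W)
    (hOp : pCore p P = ⊥) (hW : ∀ w : W, p • w = 0)
    (hfaith : ∀ g : P, (∀ w : W, g • w = w) → g = 1) (hBS : B ≤ S) (hBe : IsEA p B)
    (hoff : Nat.card W ≤ jv W B) :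
    (∀ b ∈ B, ∀ i, cj b (E i) = E i) ∧ B ≤ ⨆ i, E i ∧
      ∀ i, ¬ B ≤ modFix (P := P) (fixS W (E i)) → ∀ R : Subgroup P, R ≤ E i →
        (∀ e ∈ E i, cj e R = R) → B ⊓ E i ≤ R → R = E i := by
  have hBp : ∀ b ∈ B, ∀ i, ∃ j, cj b (E i) = E j := fun b hb => hperm b (hBS hb)
  have hbot := modFix_eq_bot hS h hperm hOp hW hfaith
  have huniv : InvQ B E (Finset.univ : Finset ι) := fun _ _ _ _ _ _ => Finset.mem_univ _
  have hcardB : (modFix (P := P) (zQ W E (Finset.univ : Finset ι))).relIndex B = Nat.card B := by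
    rw [hbot, Subgroup.relIndex_bot_left]
  have hBpos : 0 < Nat.card B := Nat.card_pos
  have hindex : (dFix (zQ W E (Finset.univ : Finset ι)) B).index ≤ Nat.card B := by
    have h1 : fixS W B ≤ dFix (zQ W E (Finset.univ : Finset ι)) B := by
      intro w hw b hb
      rw [hw b hb, sub_self]
      exact AddSubgroup.zero_mem _
    have h2 : (dFix (zQ W E (Finset.univ : Finset ι)) B).index ≤ (fixS W B).index :=
      Nat.le_of_dvd (Nat.pos_of_ne_zero AddSubgroup.index_ne_zero_of_finite) (AddSubgroup.index_dvd_of_le h1)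
    refine h2.trans ?_
    have h3 := (fixS W B).card_mul_index
    have h4 : 0 < Nat.card (fixS W B) := Nat.card_pos
    apply Nat.le_of_mul_le_mul_left _ h4
    rw [h3, mul_comm]
    exact hoff
  have horb : ∀ i, (orb B E i).card < 2 := by
    intro i
    by_contra hcon
    push_neg at hcon
    have h1 := rel_lt hBp h hgood hBe _ huniv (Finset.mem_univ i) hcon
    rw [hcardB] at h1
    omega
  have hfixed : ∀ b ∈ B, ∀ i, cj b (E i) = E i := by
    intro b hb i
    obtain ⟨j, hj⟩ := hBp b hb i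
    have h1 : j ∈ orb B E i := mem_orb.2 ⟨b, hb, hj⟩
    have h2 := Finset.card_le_one.1 (Nat.lt_succ_iff.1 (horb i)) j h1 i (self_mem_orb i)
    rw [hj, h2]
  -- the decomposition
  have hdec : ∀ i, (modFix (P := P) (fixS W (E i))).relIndex B = (dFix (fixS W (E i)) B).index ∧
      ∀ b ∈ B, ∃ e ∈ B ⊓ E i, ∀ w : W, b • w - e • w ∈ fixS W (E i) := by
    intro i
    have hinv' : InvQ B E (Finset.univ.erase i) := by
      intro j hj b hb k hk
      rw [hfixed b hb j] at hk
      have h1 := E_inj h hgood hk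
      rw [← h1]
      exact hj
    have hinvi : InvQ B E ({i} : Finset ι) := by
      intro j hj b hb k hk
      rw [Finset.mem_singleton] at hj ⊢
      subst hj
      rw [hfixed b hb j] at hk
      exact (E_inj h hgood hk).symm
    have hU : (Finset.univ : Finset ι) = {i} ∪ Finset.univ.erase i := by
      rw [← Finset.insert_eq, Finset.insert_erase (Finset.mem_univ i)]
    have hd : Disjoint ({i} : Finset ι) (Finset.univ.erase i) := by
      rw [Finset.disjoint_singleton_left]
      exact Finset.notMem_erase i _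
    obtain ⟨h1, h2⟩ := rel_split hBp h hU hd hinvi hinv'
    rw [zQ_singleton] at h1 h2
    have h3 := rel_le hBp h hgood hBe _ hinv'
    obtain ⟨h4, h5⟩ := (hgood i).single B hBe (fun b hb => hfixed b hb i)
    rw [hcardB] at h2
    rw [h1] at hindex
    set Ni : Subgroup P := modFix (P := P) (zQ W E (Finset.univ.erase i)) with hNi
    set M : Subgroup P := modFix (P := P) (fixS W (E i)) with hM
    set r := M.relIndex B with hr
    set x := (dFix (fixS W (E i)) B).index with hx
    set r' := Ni.relIndex B with hr'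
    set x' := (dFix (zQ W E (Finset.univ.erase i)) B).index with hx'
    have hr'pos : 0 < r' := Nat.pos_of_ne_zero Subgroup.index_ne_zero_of_finite
    have hrx : r = x := by
      by_contra hne
      have h6 : r < x := lt_of_le_of_ne h4 hne
      have h7 : r * r' < x * r' := Nat.mul_lt_mul_of_pos_right h6 hr'pos
      have h8 : x * r' ≤ x * x' := Nat.mul_le_mul_left _ h3
      omega
    have hprod : r * r' = Nat.card B := by
      apply le_antisymm
      · calc r * r' ≤ x * x' := Nat.mul_le_mul h4 h3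
          _ ≤ Nat.card B := hindex
      · exact h2
    refine ⟨hrx, ?_⟩
    obtain ⟨hsame, -⟩ := h5 hrx
    -- products
    let K₁ : Subgroup ↥B := M.subgroupOf B
    let K₂ : Subgroup ↥B := Ni.subgroupOf B
    have hc₁ : Nat.card K₁ * r = Nat.card B := K₁.card_mul_index
    have hc₂ : Nat.card K₂ * r' = Nat.card B := K₂.card_mul_index
    have hcc : Nat.card K₁ * Nat.card K₂ = Nat.card B := by
      have h6 : (Nat.card K₁ * Nat.card K₂) * (r * r') = Nat.card B * Nat.card B := by
        calc (Nat.card K₁ * Nat.card K₂) * (r * r') = (Nat.card K₁ * r) * (Nat.card K₂ * r') := by ring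
          _ = Nat.card B * Nat.card B := by rw [hc₁, hc₂]
      rw [hprod] at h6
      exact Nat.eq_of_mul_eq_mul_right hBpos h6
    have hinf : ∀ y : ↥B, y ∈ K₁ → y ∈ K₂ → y = 1 := by
      intro y h₁ h₂
      have h6 : (y : P) ∈ modFix (P := P) (zQ W E (Finset.univ : Finset ι)) := by
        rw [mem_modFix_zQ]
        intro j _
        by_cases hj : j = i
        · subst hj
          exact Subgroup.mem_subgroupOf.1 h₁
        · exact mem_modFix_zQ.1 (Subgroup.mem_subgroupOf.1 h₂) j (Finset.mem_erase.2 ⟨hj, Finset.mem_univ j⟩)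
      rw [hbot] at h6
      exact Subtype.ext h6
    have hcommB : ∀ a b : ↥B, a * b = b * a := fun a b => Subtype.ext (hBe.comm a a.2 b b.2)
    have hinj : Function.Injective (fun q : K₁ × K₂ => ((q.1 : ↥B) * (q.2 : ↥B) : ↥B)) := by
      rintro ⟨a₁, a₂⟩ ⟨b₁, b₂⟩ he
      have he' : (a₁ : ↥B) * (a₂ : ↥B) = (b₁ : ↥B) * (b₂ : ↥B) := he
      have h6 : ((b₁ : ↥B))⁻¹ * (a₁ : ↥B) = (b₂ : ↥B) * ((a₂ : ↥B))⁻¹ := by
        rw [inv_mul_eq_iff_eq_mul, ← mul_assoc, eq_mul_inv_iff_mul_eq, he']
      have h7 : ((b₁ : ↥B))⁻¹ * (a₁ : ↥B) = 1 :=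
        hinf _ (K₁.mul_mem (K₁.inv_mem b₁.2) a₁.2) (by
          rw [h6]
          exact K₂.mul_mem b₂.2 (K₂.inv_mem a₂.2))
      have h8 : (b₂ : ↥B) * ((a₂ : ↥B))⁻¹ = 1 := by rw [← h6, h7]
      have h9 : (a₁ : ↥B) = b₁ := by
        rw [inv_mul_eq_one] at h7
        exact h7.symm
      have h10 : (b₂ : ↥B) = a₂ := by
        rwa [mul_inv_eq_one] at h8
      exact Prod.ext (Subtype.ext h9) (Subtype.ext h10.symm)
    have hbij := hinj.bijective_of_nat_card_le (by
      rw [Nat.card_prod, hcc])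
    intro b hb
    obtain ⟨⟨k₁, k₂⟩, hk⟩ := hbij.2 ⟨b, hb⟩
    have hk' : (k₁ : ↥B) * (k₂ : ↥B) = ⟨b, hb⟩ := hk
    have hbk : b = ((k₁ : ↥B) : P) * ((k₂ : ↥B) : P) := (congrArg Subtype.val hk').symm
    obtain ⟨e, heE, he⟩ := hsame ((k₂ : ↥B) : P) (k₂ : ↥B).2
    have hk₂e : ((k₂ : ↥B) : P) = e := by
      have h6 : e⁻¹ * ((k₂ : ↥B) : P) = 1 := by
        have h7 : e⁻¹ * ((k₂ : ↥B) : P) ∈ modFix (P := P) (zQ W E (Finset.univ : Finset ι)) := by
          rw [mem_modFix_zQ]
          intro j _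
          by_cases hj : j = i
          · subst hj
            intro v
            have h8 := he v
            have h9 : (e⁻¹ * ((k₂ : ↥B) : P)) • v - v = e⁻¹ • (((k₂ : ↥B) : P) • v - e • v) := by
              rw [smul_sub, inv_smul_smul, mul_smul]
            rw [h9, (h8 e⁻¹ ((E j).inv_mem heE))]
            exact h8
          · refine Subgroup.mul_mem _ (Subgroup.inv_mem _ (h.quad j i hj heE)) ?_
            exact mem_modFix_zQ.1 (Subgroup.mem_subgroupOf.1 k₂.2) j (Finset.mem_erase.2 ⟨hj, Finset.mem_univ j⟩)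
        rw [hbot] at h7
        exact h7
      rw [inv_mul_eq_one] at h6
      exact h6.symm
    refine ⟨e, ⟨by rw [← hk₂e]; exact (k₂ : ↥B).2, heE⟩, fun w => ?_⟩
    rw [hbk, mul_smul, ← hk₂e]
    exact Subgroup.mem_subgroupOf.1 k₁.2 _
  refine ⟨hfixed, ?_, ?_⟩
  · intro b hb
    have key : ∀ Q : Finset ι, ∃ k ∈ B, k ∈ (⨆ l ∈ Q, E l) ∧ ∀ i ∈ Q, b⁻¹ * k ∈ modFix (P := P) (fixS W (E i)) := by
      intro Q
      induction Q using Finset.induction_on with
      | empty => exact ⟨1, B.one_mem, Subgroup.one_mem _, by simp⟩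
      | insert j Q hj ih =>
        obtain ⟨k, hkB, hkQ, hk⟩ := ih
        obtain ⟨e, ⟨heB, heE⟩, he⟩ := (hdec j).2 b hb
        have hmono : (⨆ l ∈ Q, E l) ≤ ⨆ l ∈ insert j Q, E l :=
          biSup_mono (fun l hl => Finset.mem_insert_of_mem hl)
        have hej : E j ≤ ⨆ l ∈ insert j Q, E l :=
          le_iSup₂_of_le j (Finset.mem_insert_self j Q) (le_refl _)
        refine ⟨k * e, B.mul_mem hkB heB, Subgroup.mul_mem _ (hmono hkQ) (hej heE), ?_⟩
        intro i hi
        rcases Finset.mem_insert.1 hi with rfl | hi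
        · have h1 : b⁻¹ * (k * e) = (b⁻¹ * e) * k := by
            rw [hBe.comm k hkB e heB]
            group
          rw [h1]
          refine Subgroup.mul_mem _ ?_ ?_
          · intro v
            have h2 : (b⁻¹ * e) • v - v = b⁻¹ • (e • v - b • v) := by
              rw [smul_sub, inv_smul_smul, mul_smul]
            rw [h2]
            have h3 := he v
            have h4 : e • v - b • v = -(b • v - e • v) := by abel
            rw [h4]
            exact fix_inv (fun d hd => hfixed d hd i) b⁻¹ (B.inv_mem hb) _ (AddSubgroup.neg_mem _ h3)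
          · have hle : (⨆ l ∈ Q, E l) ≤ modFix (P := P) (fixS W (E i)) := by
              refine iSup₂_le fun l hl => ?_
              exact h.quad i l (fun he' => hj (he' ▸ hl))
            exact hle hkQ
        · have h1 : b⁻¹ * (k * e) = (b⁻¹ * k) * e := by group
          rw [h1]
          refine Subgroup.mul_mem _ (hk i hi) ?_
          exact h.quad i j (fun he' => hj (he' ▸ hi)) heE
    obtain ⟨k, -, hkQ, hk⟩ := key Finset.univ
    have h1 : b⁻¹ * k ∈ modFix (P := P) (zQ W E (Finset.univ : Finset ι)) := mem_modFix_zQ.2 hk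
    rw [hbot, Subgroup.mem_bot, inv_mul_eq_one] at h1
    rw [h1]
    have hle : (⨆ l ∈ (Finset.univ : Finset ι), E l) ≤ ⨆ i, E i :=
      iSup₂_le fun l _ => le_iSup E l
    exact hle hkQ
  · intro i hnle R hRE hRn hBR
    obtain ⟨h1, h2⟩ := (hgood i).single B hBe (fun b hb => hfixed b hb i)
    obtain ⟨-, h3⟩ := h2 (hdec i).1
    apply h3 hnle R hRE hRn
    intro d hd e he hsame
    obtain ⟨e', he', hsame'⟩ := (hdec i).2 d hd
    have h4 : e⁻¹ * e' = 1 := by
      apply (hgood i).faith _ ((E i).mul_mem ((E i).inv_mem he) he'.2)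
      intro v
      have h5 : (e⁻¹ * e') • v - v = e⁻¹ • (e' • v - e • v) := by
        rw [smul_sub, inv_smul_smul, mul_smul]
      rw [h5]
      have h6 : e' • v - e • v = (d • v - e • v) - (d • v - e' • v) := by abel
      rw [h6]
      have h7 := AddSubgroup.sub_mem _ (hsame v) (hsame' v)
      rw [h7 e⁻¹ ((E i).inv_mem he)]
      exact h7
    have h5 : e = e' := by
      rw [inv_mul_eq_one] at h4
      exact h4
    rw [h5]
    exact hBR he'

/-- The normal subgroups containing an offender contain the block structure. -/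
theorem blocks_le_normal {B J : Subgroup P} (hS : IsPGroup p S) (h : Blocks p S W E)
    (hperm : ∀ t ∈ S, ∀ i, ∃ j, cj t (E i) = E j) (hgood : ∀ i, GoodBlock p (E i) W)
    (hOp : pCore p P = ⊥) (hW : ∀ w : W, p • w = 0)
    (hfaith : ∀ g : P, (∀ w : W, g • w = w) → g = 1) (hBS : B ≤ S) (hBe : IsEA p B)
    (hoff : Nat.card W ≤ jv W B) (hBne : B ≠ ⊥) (hJ : J.Normal) (hBJ : B ≤ J) : (⨆ i, E i) ≤ J := by
  obtain ⟨-, -, h3⟩ := offender_main hS h hperm hgood hOp hW hfaith hBS hBe hoff
  have hbot := modFix_eq_bot hS h hperm hOp hW hfaith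
  obtain ⟨i, hi⟩ : ∃ i, ¬ B ≤ modFix (P := P) (fixS W (E i)) := by
    by_contra hcon
    push_neg at hcon
    apply hBne
    rw [eq_bot_iff, ← hbot]
    intro b hb
    exact mem_modFix_zQ.2 fun i _ => hcon i hb
  have h4 : J ⊓ E i = E i := by
    apply h3 i hi (J ⊓ E i) inf_le_right
    · intro e he
      rw [cj_inf, cj_eq_of_normal hJ, cj_eq_of_mem he]
    · exact inf_le_inf_right _ hBJ
  have h5 : E i ≤ J := by
    rw [← h4]
    exact inf_le_left
  refine iSup_le fun j => ?_
  obtain ⟨t, -, ht⟩ := h.trans i j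
  rw [← ht, ← cj_eq_of_normal hJ t]
  exact cj_le_cj.2 h5

end Cfsg.Agent.Lib.BHS.OffCount
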