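/-
The quotient `G / C_G(V)` acting on an abelian normal subgroup `V`, and the transfer of the block
structure to the language of subgroups of `G`.
-/
import Cfsg.Agent.Lib.BHS.OffCount
import Cfsg.Agent.Lib.BHS.Final
import Cfsg.Agent.Lib.BHS.SEmb

set_option autoImplicit false
set_option linter.unusedSectionVars false
set_option linter.unusedVariables false
set_option linter.unusedSimpArgs false

namespace Cfsg.Agent.Lib.BHS.CssMod

open Cfsg Cfsg.Agent.Lib.BHS.OffBasic Cfsg.Agent.Lib.BHS.OffStruct Cfsg.Agent.Lib.BHS.Points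
  Cfsg.Agent.Lib.BHS.Pkg Cfsg.Agent.Lib.BHS.Members Cfsg.Agent.Lib.BHS.Blocks
  Cfsg.Agent.Lib.BHS.QBig Cfsg.Agent.Lib.BHS.OffBlock Cfsg.Agent.Lib.BHS.Reduce
  Cfsg.Agent.Lib.BHS.ModMain Cfsg.Agent.Lib.BHS.ModTransfer Cfsg.Agent.Lib.BHS.Final
  Cfsg.Agent.Lib.BHS.OffCount Cfsg.Agent.Lib.Core.Basic
open scoped commutatorElement

variable {G : Type*} [Group G] {V : Subgroup G} [hn : V.Normal] [hc : IsMulCommutative V]

/-- `G` acts on `V` by conjugation. -/
noncomputable instance instActG : DistribMulAction G (MV V) where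
  smul g w := MV.mk (hn.conj_mem _ w.val_mem g)
  one_smul w := MV.ext (by
    change (1 : G) * w.val * (1 : G)⁻¹ = w.val
    simp)
  mul_smul g h w := MV.ext (by
    change (g * h) * w.val * (g * h)⁻¹ = g * (h * w.val * h⁻¹) * g⁻¹
    group)
  smul_zero g := MV.ext (by
    change g * 1 * g⁻¹ = 1
    simp)
  smul_add g w w' := MV.ext (by
    change g * (w.val * w'.val) * g⁻¹ = (g * w.val * g⁻¹) * (g * w'.val * g⁻¹)
    group)

theorem val_smulG (g : G) (w : MV V) : (g • w).val = g * w.val * g⁻¹ := rfl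

/-- The action of the quotient by the centralizer. -/
noncomputable instance instActQ : DistribMulAction (G ⧸ Subgroup.centralizer (V : Set G)) (MV V) :=
  quotGroupAct (Subgroup.centralizer (V : Set G)) (MV V) (fun k hk y => MV.ext (by
    rw [val_smulG]
    have h1 := Subgroup.mem_centralizer_iff.1 hk y.val y.val_mem
    rw [← h1]
    group))

variable (V) in
/-- The quotient map. -/
abbrev fQ : G →* G ⧸ Subgroup.centralizer (V : Set G) := QuotientGroup.mk' _

theorem val_smulQ (g : G) (w : MV V) : ((fQ V g) • w).val = g * w.val * g⁻¹ := rfl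

theorem surj_fQ : Function.Surjective (fQ V) := QuotientGroup.mk'_surjective _

theorem ker_fQ : (fQ V).ker = Subgroup.centralizer (V : Set G) := QuotientGroup.ker_mk' _

theorem mem_fixS_q {B : Subgroup (G ⧸ Subgroup.centralizer (V : Set G))} {w : MV V} :
    w ∈ fixS (MV V) B ↔ w.val ∈ Subgroup.centralizer ((B.comap (fQ V) : Subgroup G) : Set G) := by
  rw [Subgroup.mem_centralizer_iff]
  constructor
  · intro h g hg
    have h1 := congrArg MV.val (h (fQ V g) hg)
    rw [val_smulQ] at h1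
    exact (mul_inv_eq_iff_eq_mul.1 h1)
  · intro h b hb
    obtain ⟨g, rfl⟩ := surj_fQ (V := V) b
    apply MV.ext
    rw [val_smulQ, h g hb]
    group

theorem toG_fixS_q (B : Subgroup (G ⧸ Subgroup.centralizer (V : Set G))) :
    toG (fixS (MV V) B) = V ⊓ Subgroup.centralizer ((B.comap (fQ V) : Subgroup G) : Set G) := by
  apply le_antisymm
  · rintro _ ⟨w, hw, rfl⟩
    exact ⟨w.val_mem, mem_fixS_q.1 hw⟩
  · rintro x ⟨hx₁, hx₂⟩
    exact ⟨MV.mk hx₁, mem_fixS_q.2 hx₂, rfl⟩

theorem toG_comS_q (B : Subgroup (G ⧸ Subgroup.centralizer (V : Set G))) :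
    toG (comS (MV V) B) = ⁅V, B.comap (fQ V)⁆ := by
  apply le_antisymm
  · rintro _ ⟨w, hw, rfl⟩
    induction hw using AddSubgroup.closure_induction with
    | mem x hx =>
      obtain ⟨b, hb, v, rfl⟩ := hx
      obtain ⟨g, rfl⟩ := surj_fQ (V := V) b
      have h1 : ((fQ V g) • v - v).val = ⁅v.val, g⁆⁻¹ := by
        rw [MV.val_sub, val_smulQ, commutatorElement_inv, commutatorElement_def]
      rw [h1]
      exact Subgroup.inv_mem _ (Subgroup.commutator_mem_commutator v.val_mem hb)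
    | zero => exact Subgroup.one_mem _
    | add x y _ _ hx hy => exact Subgroup.mul_mem _ hx hy
    | neg x _ hx => exact Subgroup.inv_mem _ hx
  · rw [Subgroup.commutator_le]
    intro v hv g hg
    have h1 : (fQ V) g ∈ B := hg
    have h2 : (fQ V g) • (MV.mk hv : MV V) - MV.mk hv ∈ comS (MV V) B := smul_sub_mem_comS h1 _
    refine ⟨-((fQ V g) • MV.mk hv - MV.mk hv), AddSubgroup.neg_mem _ h2, ?_⟩
    rw [MV.val_neg, MV.val_sub, val_smulQ, MV.val_mk, commutatorElement_def]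
    group

theorem le_normalizer_comm (H : Subgroup G) :
    H ≤ Subgroup.normalizer ((⁅V, H⁆ : Subgroup G) : Set G) := by
  intro h hh
  rw [mem_normalizer_iff_cj]
  unfold cj
  rw [Subgroup.map_commutator]
  exact congrArg₂ _ (cj_eq_of_normal hn h) (cj_eq_of_mem hh)

theorem mk_psi {X : Type*} [AddCommGroup X] (Θ : MV V →+ X) {U : Subgroup G} (hU : U ≤ V) (u : ↥U) :
    Multiplicative.toAdd (psiOf Θ hU u) = Θ (MV.mk (hU u.2)) := rfl

/-- The quotient of `B'`. -/
theorem quot_equiv (B : Subgroup (G ⧸ Subgroup.centralizer (V : Set G))) :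
    ∃ _ : ((Subgroup.centralizer (V : Set G)).subgroupOf (B.comap (fQ V))).Normal,
      Nonempty (↥(B.comap (fQ V)) ⧸ (Subgroup.centralizer (V : Set G)).subgroupOf (B.comap (fQ V)) ≃* ↥B) := by
  have hN : ((Subgroup.centralizer (V : Set G)).subgroupOf (B.comap (fQ V))).Normal :=
    Subgroup.normal_subgroupOf
  refine ⟨hN, ?_⟩
  let φ : ↥(B.comap (fQ V)) →* ↥B := (fQ V).subgroupComap B
  have hφ : Function.Surjective φ := (fQ V).subgroupComap_surjective_of_surjective B surj_fQ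
  have hker : (Subgroup.centralizer (V : Set G)).subgroupOf (B.comap (fQ V)) = φ.ker := by
    ext x
    rw [Subgroup.mem_subgroupOf, MonoidHom.mem_ker]
    constructor
    · intro h
      apply Subtype.ext
      exact (QuotientGroup.eq_one_iff _).2 h
    · intro h
      have h1 : (fQ V) (x : G) = 1 := congrArg Subtype.val h
      exact (QuotientGroup.eq_one_iff _).1 h1
  exact ⟨(QuotientGroup.quotientMulEquivOfEq hker).trans (QuotientGroup.quotientKerEquivOfSurjective φ hφ)⟩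

/-- Transfer of the case `SL₂`. -/
theorem sl2_transfer_q {p n : ℕ} {B : Subgroup (G ⧸ Subgroup.centralizer (V : Set G))}
    (hk : KindSL2 p n B (MV V)) (hsplit : fixS (MV V) B ⊔ comS (MV V) B = ⊤) :
    ∃ (F : Type) (_ : Field F) (_ : Fintype F), Fintype.card F = p ^ n ∧
      (∃ _ : ((Subgroup.centralizer (V : Set G)).subgroupOf (B.comap (fQ V))).Normal,
        Nonempty (↥(B.comap (fQ V)) ⧸ (Subgroup.centralizer (V : Set G)).subgroupOf (B.comap (fQ V)) ≃*
          Matrix.SpecialLinearGroup (Fin 2) F)) ∧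
      ActsAsSL2OnSection F ⊤ (B.comap (fQ V)) ⁅V, B.comap (fQ V)⁆
        (⁅V, B.comap (fQ V)⁆ ⊓ Subgroup.centralizer ((B.comap (fQ V) : Subgroup G) : Set G)) := by
  obtain ⟨F, fF, fFt, hcF, ρ, Θ, hsurj, hker, hequi⟩ := hk
  obtain ⟨hN, ⟨e⟩⟩ := quot_equiv B
  refine ⟨F, fF, fFt, hcF, ⟨hN, ⟨e.trans ρ⟩⟩, ?_⟩
  let φ : ↥(B.comap (fQ V)) →* ↥B := (fQ V).subgroupComap B
  have hφ : Function.Surjective φ := (fQ V).subgroupComap_surjective_of_surjective B surj_fQ
  have hUV : ⁅V, B.comap (fQ V)⁆ ≤ V := by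
    rw [← toG_comS_q]
    exact toG_le _
  refine ⟨le_normalizer_comm _, inf_le_left, ρ.toMonoidHom.comp φ, psiOf Θ hUV, ?_, ?_, ?_, ?_⟩
  · rw [MonoidHom.range_eq_top]
    exact ρ.surjective.comp hφ
  · intro m
    obtain ⟨w, hw⟩ := hsurj (Multiplicative.toAdd m)
    have hwm : w ∈ fixS (MV V) B ⊔ comS (MV V) B := by
      rw [hsplit]
      trivial
    obtain ⟨c, hc', y, hy, rfl⟩ := AddSubgroup.mem_sup.1 hwm
    have hyU : y.val ∈ ⁅V, B.comap (fQ V)⁆ := by
      rw [← toG_comS_q]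
      exact val_mem_toG hy
    refine ⟨⟨y.val, hyU⟩, ?_⟩
    apply Multiplicative.toAdd.injective
    rw [psiOf_apply, ← hw, map_add, (hker c).2 hc', zero_add]
    rfl
  · intro u
    constructor
    · intro h
      have h1 : Θ (MV.mk (hUV u.2)) = 0 := Multiplicative.ofAdd.injective h
      have h2 := (hker _).1 h1
      have h3 := mem_fixS_q.1 h2
      exact Subgroup.mem_inf.2 ⟨u.2, h3⟩
    · intro h
      have h1 : (MV.mk (hUV u.2) : MV V) ∈ fixS (MV V) B := mem_fixS_q.2 h.2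
      have h2 := (hker _).2 h1
      apply Multiplicative.toAdd.injective
      rw [psiOf_apply, h2]
      rfl
  · intro e' u
    have hnorm := le_normalizer_comm (V := V) (B.comap (fQ V)) e'.2
    have hmem : (e' : G) * (u : G) * (e' : G)⁻¹ ∈ ⁅V, B.comap (fQ V)⁆ :=
      (Subgroup.mem_normalizer_iff.1 hnorm u).1 u.2
    refine ⟨⟨_, hmem⟩, rfl, ?_⟩
    rw [psiOf_apply, psiOf_apply]
    have h1 : (MV.mk (hUV hmem) : MV V) = (φ e').1 • MV.mk (hUV u.2) := by
      apply MV.ext
      exact rfl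
    rw [h1, hequi (φ e')]
    rfl

/-- Transfer of the case of the symmetric groups. -/
theorem perm_transfer_q {n : ℕ} {B : Subgroup (G ⧸ Subgroup.centralizer (V : Set G))}
    (hk : KindPerm n B (MV V)) (hsplit : fixS (MV V) B ⊔ comS (MV V) B = ⊤) :
    (∃ _ : ((Subgroup.centralizer (V : Set G)).subgroupOf (B.comap (fQ V))).Normal,
        Nonempty (↥(B.comap (fQ V)) ⧸ (Subgroup.centralizer (V : Set G)).subgroupOf (B.comap (fQ V)) ≃*
          Equiv.Perm (Fin n))) ∧
      ActsAsOddPermModuleOnSection n ⊤ (B.comap (fQ V)) ⁅V, B.comap (fQ V)⁆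
        (⁅V, B.comap (fQ V)⁆ ⊓ Subgroup.centralizer ((B.comap (fQ V) : Subgroup G) : Set G)) := by
  obtain ⟨ρ, Θ, hsum, hsurj, hker, hequi⟩ := hk
  obtain ⟨hN, ⟨e⟩⟩ := quot_equiv B
  refine ⟨⟨hN, ⟨e.trans ρ⟩⟩, ?_⟩
  let φ : ↥(B.comap (fQ V)) →* ↥B := (fQ V).subgroupComap B
  have hφ : Function.Surjective φ := (fQ V).subgroupComap_surjective_of_surjective B surj_fQ
  have hUV : ⁅V, B.comap (fQ V)⁆ ≤ V := by
    rw [← toG_comS_q]
    exact toG_le _
  refine ⟨le_normalizer_comm _, inf_le_left, ρ.toMonoidHom.comp φ, psiOf Θ hUV, ?_, ?_, ?_, ?_, ?_⟩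
  · rw [MonoidHom.range_eq_top]
    exact ρ.surjective.comp hφ
  · intro u
    rw [psiOf_apply]
    exact hsum _
  · intro v hv
    obtain ⟨w, hw⟩ := hsurj v hv
    have hwm : w ∈ fixS (MV V) B ⊔ comS (MV V) B := by
      rw [hsplit]
      trivial
    obtain ⟨c, hc', y, hy, rfl⟩ := AddSubgroup.mem_sup.1 hwm
    have hyU : y.val ∈ ⁅V, B.comap (fQ V)⁆ := by
      rw [← toG_comS_q]
      exact val_mem_toG hy
    refine ⟨⟨y.val, hyU⟩, ?_⟩
    rw [psiOf_apply, ← hw, map_add, (hker c).2 hc', zero_add]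
    rfl
  · intro u
    constructor
    · intro h
      have h1 : Θ (MV.mk (hUV u.2)) = 0 := Multiplicative.ofAdd.injective h
      have h2 := (hker _).1 h1
      have h3 := mem_fixS_q.1 h2
      exact Subgroup.mem_inf.2 ⟨u.2, h3⟩
    · intro h
      have h1 : (MV.mk (hUV u.2) : MV V) ∈ fixS (MV V) B := mem_fixS_q.2 h.2
      have h2 := (hker _).2 h1
      apply Multiplicative.toAdd.injective
      rw [psiOf_apply, h2]
      rfl
  · intro e' u
    have hnorm := le_normalizer_comm (V := V) (B.comap (fQ V)) e'.2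
    have hmem : (e' : G) * (u : G) * (e' : G)⁻¹ ∈ ⁅V, B.comap (fQ V)⁆ :=
      (Subgroup.mem_normalizer_iff.1 hnorm u).1 u.2
    refine ⟨⟨_, hmem⟩, rfl, ?_⟩
    intro i
    rw [psiOf_apply, psiOf_apply]
    have h1 : (MV.mk (hUV hmem) : MV V) = (φ e').1 • MV.mk (hUV u.2) := by
      apply MV.ext
      exact rfl
    rw [h1, hequi (φ e')]
    rfl

end Cfsg.Agent.Lib.BHS.CssMod
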