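/-
The local `C**`-theorem for minimal parabolic groups: the group-theoretic part.
-/
import Cfsg.Agent.Lib.BHS.CssMod
import Cfsg.Agent.Lib.PLocal.Thompson

set_option autoImplicit false
set_option linter.unusedSectionVars false
set_option linter.unusedVariables false
set_option linter.unusedSimpArgs false

namespace Cfsg.Agent.Lib.BHS.CssMain

open Cfsg Cfsg.Agent.Lib.BHS.OffBasic Cfsg.Agent.Lib.BHS.OffStruct Cfsg.Agent.Lib.BHS.Points
  Cfsg.Agent.Lib.BHS.Pkg Cfsg.Agent.Lib.BHS.Members Cfsg.Agent.Lib.BHS.Blocks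
  Cfsg.Agent.Lib.BHS.QBig Cfsg.Agent.Lib.BHS.OffBlock Cfsg.Agent.Lib.BHS.Reduce
  Cfsg.Agent.Lib.BHS.ModMain Cfsg.Agent.Lib.BHS.ModTransfer Cfsg.Agent.Lib.BHS.Final
  Cfsg.Agent.Lib.BHS.OffCount Cfsg.Agent.Lib.Core.Basic Cfsg.Agent.Lib.BHS.CssMod
  Cfsg.Agent.Lib.BHS.Nsa Cfsg.Agent.Lib.BHS.BPlus Cfsg.Agent.Lib.BHS.SEmb
open Cfsg.Agent.Lib.PLocal.Thompson (IsMaxIn jOf IsAbExp jOf_conj jOf_eq_of_le jOf_le thompsonSubgroup_eq
  thompsonSubgroupOf_eq isAbExp_iff_ea mem_maxEA_iff)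
open scoped commutatorElement

/-- The conclusion of the theorem. -/
def CssConcl (p : ℕ) (G : Type*) [Group G] (V T : Subgroup G) : Prop :=
  ∃ (r : ℕ) (E : Fin r → Subgroup G), (∀ i, Subgroup.centralizer (V : Set G) ≤ E i) ∧ Cfsg.thompsonSubgroup p G ⊔ (T : Subgroup G) ⊔ Subgroup.centralizer (V : Set G) = ⊤ ∧ (⨆ i, E i) = Cfsg.thompsonSubgroup p G ⊔ Subgroup.centralizer (V : Set G) ∧ (∀ i j, i ≠ j → ⁅E i, E j⁆ ≤ Subgroup.centralizer (V : Set G)) ∧ (∀ i, E i ⊓ (⨆ j ∈ {j | j ≠ i}, E j) ≤ Subgroup.centralizer (V : Set G)) ∧ (∀ i j, ∃ t ∈ (T : Subgroup G), (E i).map (MulAut.conj t).toMonoidHom = E j) ∧ (V ⊓ Subgroup.centralizer ((⨆ i, E i : Subgroup G) : Set G)) ⊔ (⨆ i, ⁅V, E i⁆) = V ∧ (∀ i j, i ≠ j → ⁅⁅V, E i⁆, E j⁆ = ⊥) ∧ ∀ i, ∃ n : ℕ, 1 ≤ n ∧ ((∃ (F : Type) (_ : Field F) (_ : Fintype F), Fintype.card F = p ^ n ∧ (∃ _ : ((Subgroup.centralizer (V : Set G)).subgroupOf (E i)).Normal, Nonempty (↥(E i) ⧸ (Subgroup.centralizer (V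 : Set G)).subgroupOf (E i) ≃* Matrix.SpecialLinearGroup (Fin 2) F)) ∧ Cfsg.ActsAsSL2OnSection F ⊤ (E i) ⁅V, E i⁆ (⁅V, E i⁆ ⊓ Subgroup.centralizer ((E i : Subgroup G) : Set G))) ∨ (p = 2 ∧ (∃ _ : ((Subgroup.centralizer (V : Set G)).subgroupOf (E i)).Normal, Nonempty (↥(E i) ⧸ (Subgroup.centralizer (V : Set G)).subgroupOf (E i) ≃* Equiv.Perm (Fin (2 ^ n + 1)))) ∧ Cfsg.ActsAsOddPermModuleOnSection (2 ^ n + 1) ⊤ (E i) ⁅V, E i⁆ (⁅V, E i⁆ ⊓ Subgroup.centralizer ((E i : Subgroup G) : Set G))))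

theorem good_of_kind {P : Type*} [Group P] [Finite P] {W : Type*} [AddCommGroup W] [Finite W]
    [DistribMulAction P W] {p : ℕ} [hp : Fact p.Prime] {E : Subgroup P}
    (h : ∃ n, 1 ≤ n ∧ (KindSL2 p n E W ∨ (p = 2 ∧ KindPerm (2 ^ n + 1) E W))) : GoodBlock p E W := by
  obtain ⟨n, hn, hk | ⟨h2, hk⟩⟩ := h
  · exact goodBlock_of_sl2 hn hk
  · subst h2
    by_cases h2 : 2 ≤ n
    · exact goodBlock_of_perm h2 hk
    · have h1 : n = 1 := by omega
      subst h1
      exact goodBlock_of_sl2 (n := 1) le_rfl (kindSL2_of_perm3 hk)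

variable {G : Type*} [Group G] [Finite G] {p : ℕ} [hp : Fact p.Prime]
variable {T : Sylow p G} {M : Subgroup G}

theorem fr_lemma (hPt : PtHyp p T M) {K R : Subgroup G} (hKM : K ≤ M) (hR : R.Normal)
    (hRK : ∀ r ∈ R, ∃ t ∈ (T : Subgroup G), t ∈ R ∧ ∃ c ∈ K, r = t * c) :
    ∃ Q₀ : Subgroup G, Q₀.Normal ∧ IsPGroup p Q₀ ∧ ∀ x ∈ (T : Subgroup G), x ∈ R → x ∈ Q₀ := by
  obtain ⟨L, Q, hTL, -, hQL, hQp, hLn, hfact, hQ⟩ := exists_frattini (p := p) (G := ⊤) (K := R)
    (X := (T : Subgroup G)) le_top (fun g _ k hk => hR.conj_mem k hk g) le_top T.isPGroup'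
  by_cases hL : L = ⊤
  · refine ⟨Q, ?_, hQp, hQ⟩
    rw [hL] at hLn
    exact Subgroup.normalizer_eq_top_iff.1 (top_le_iff.1 hLn)
  · exfalso
    have h1 := hPt.le_M hTL hL
    apply hPt.hM.1
    rw [eq_top_iff]
    intro g _
    obtain ⟨l, hl, k, hk, rfl⟩ := hfact g trivial
    obtain ⟨t, ht, htR, c, hc, rfl⟩ := hRK k hk
    rw [← mul_assoc]
    exact M.mul_mem (M.mul_mem (h1 hl) (hPt.hTM ht)) (hKM hc)

theorem not_normal_map (hPt : PtHyp p T M) {K : Subgroup G} [K.Normal] (hKM : K ≤ M) :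
    ¬ ((T : Subgroup G).map (QuotientGroup.mk' K)).Normal := by
  intro hn
  have hR : (((T : Subgroup G).map (QuotientGroup.mk' K)).comap (QuotientGroup.mk' K)).Normal :=
    hn.comap _
  have hRK : ∀ r ∈ ((T : Subgroup G).map (QuotientGroup.mk' K)).comap (QuotientGroup.mk' K),
      ∃ t ∈ (T : Subgroup G), t ∈ ((T : Subgroup G).map (QuotientGroup.mk' K)).comap (QuotientGroup.mk' K) ∧
        ∃ c ∈ K, r = t * c := by
    intro r hr
    obtain ⟨t, ht, hte⟩ := hr
    refine ⟨t, ht, Subgroup.le_comap_map _ _ ht, t⁻¹ * r, QuotientGroup.eq.1 hte, by group⟩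
  obtain ⟨Q₀, hQn, hQp, hQ⟩ := fr_lemma hPt hKM hR hRK
  have h1 : (T : Subgroup G) ≤ Q₀ := fun x hx => hQ x hx (Subgroup.le_comap_map _ _ hx)
  have heq : Q₀ = T := T.is_maximal' hQp h1
  apply hPt.hnn
  rw [← heq]
  exact hQn

theorem ptHyp_q (hPt : PtHyp p T M) {K : Subgroup G} [K.Normal] (hKM : K ≤ M) :
    PtHyp p (T.mapSurjective (QuotientGroup.mk'_surjective K)) (M.map (QuotientGroup.mk' K)) := by
  set f := QuotientGroup.mk' K with hf
  have hsf : Function.Surjective f := QuotientGroup.mk'_surjective K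
  have hker : f.ker ≤ M := by
    rw [hf, QuotientGroup.ker_mk']
    exact hKM
  have hcm : (M.map f).comap f = M := Subgroup.comap_map_eq_self hker
  have hmc : ∀ Y : Subgroup (G ⧸ K), (Y.comap f).map f = Y := fun Y =>
    Subgroup.map_comap_eq_self_of_surjective hsf Y
  have hMne : M.map f ≠ ⊤ := by
    intro h
    rw [h, Subgroup.comap_top] at hcm
    exact hPt.hM.1 hcm.symm
  have hM₁ : IsCoatom (M.map f) := by
    refine ⟨hMne, fun Y hY => ?_⟩
    have h1 : M ≤ Y.comap f := by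
      rw [← hcm]
      exact Subgroup.comap_mono hY.le
    have h2 : Y.comap f ≠ M := by
      intro he
      apply hY.ne
      rw [← hmc Y, he]
    have h3 : Y.comap f = ⊤ := hPt.hM.2 _ (lt_of_le_of_ne h1 (Ne.symm h2))
    rw [← hmc Y, h3, ← MonoidHom.range_eq_map]
    exact MonoidHom.range_eq_top.2 hsf
  refine ⟨not_normal_map hPt hKM, ?_, hM₁, Subgroup.map_mono hPt.hTM⟩
  intro M' hM' hTM'
  have hTM'' : (T : Subgroup G).map f ≤ M' := hTM'
  have h1 : (T : Subgroup G) ≤ M'.comap f := Subgroup.map_le_iff_le_comap.1 hTM''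
  have h2 : M'.comap f ≠ ⊤ := by
    intro h
    apply hM'.1
    rw [← hmc M', h, ← MonoidHom.range_eq_map]
    exact MonoidHom.range_eq_top.2 hsf
  have h3 := hPt.le_M h1 h2
  have h4 : M' ≤ M.map f := by
    rw [← hmc M']
    exact Subgroup.map_mono h3
  rcases h4.eq_or_lt with h5 | h5
  · exact h5
  · exact absurd (hM'.2 _ h5) hMne

theorem pCore_q (hPt : PtHyp p T M) {K : Subgroup G} [K.Normal] (hKM : K ≤ M) (hQK : pCore p G ≤ K) :
    pCore p (G ⧸ K) = ⊥ := by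
  set f := QuotientGroup.mk' K with hf
  have hsf : Function.Surjective f := QuotientGroup.mk'_surjective K
  set R := pCore p (G ⧸ K) with hR
  have hRn : R.Normal := pCore_normal p (G ⧸ K)
  have hRT : R ≤ (T : Subgroup G).map f := pCore_le_sylow (T.mapSurjective hsf)
  have hKR : K ≤ R.comap f := by
    intro c hc
    have h1 : f c = 1 := (QuotientGroup.eq_one_iff _).2 hc
    show f c ∈ R
    rw [h1]
    exact R.one_mem
  have hRK : ∀ r ∈ R.comap f, ∃ t ∈ (T : Subgroup G), t ∈ R.comap f ∧ ∃ c ∈ K, r = t * c := by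
    intro r hr
    obtain ⟨t, ht, hte⟩ := hRT hr
    have hc : t⁻¹ * r ∈ K := QuotientGroup.eq.1 hte
    refine ⟨t, ht, ?_, t⁻¹ * r, hc, by group⟩
    have h1 : t = r * (t⁻¹ * r)⁻¹ := by group
    rw [h1]
    exact Subgroup.mul_mem _ hr (Subgroup.inv_mem _ (hKR hc))
  obtain ⟨Q₀, hQn, hQp, hQ⟩ := fr_lemma hPt hKM (hRn.comap f) hRK
  have hQ₀ : Q₀ ≤ K := (le_pCore hQn hQp).trans hQK
  rw [eq_bot_iff]
  intro x hx
  obtain ⟨r, rfl⟩ := hsf x
  obtain ⟨t, ht, htR, c, hc, rfl⟩ := hRK r hx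
  have h1 : t * c ∈ K := K.mul_mem (hQ₀ (hQ t ht htR)) hc
  rw [Subgroup.mem_bot]
  exact (QuotientGroup.eq_one_iff _).2 h1

theorem isMaxIn_top (T : Sylow p G) {A : Subgroup G} (h : IsMaxIn p (T : Subgroup G) A) : IsMaxIn p ⊤ A := by
  refine ⟨le_top, h.2.1, fun B _ hB => ?_⟩
  have hBp : IsPGroup p B := (IsEA.isPGroup ⟨fun a ha b hb => hB.comm ha hb, fun a ha => hB.pow ha⟩)
  obtain ⟨k, hk⟩ := exists_conj_le_sylow hBp T
  have h1 := h.2.2 (cj k B) hk (hB.map _)
  rwa [card_cj] at h1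

theorem jOf_le_top (T : Sylow p G) : jOf p (T : Subgroup G) ≤ jOf p ⊤ :=
  sSup_le fun _ hA => (isMaxIn_top T hA).le_jOf

theorem normalizer_le_jOf (U : Subgroup G) :
    Subgroup.normalizer (U : Set G) ≤ Subgroup.normalizer (jOf p U : Set G) := by
  intro g hg
  rw [mem_normalizer_iff_cj] at hg ⊢
  exact (jOf_conj p U g).trans (congrArg _ hg)

theorem thompson_normal : (thompsonSubgroup p G).Normal := by
  rw [thompsonSubgroup_eq]
  rw [← Subgroup.normalizer_eq_top_iff, eq_top_iff]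
  exact le_trans (by rw [Subgroup.normalizer_eq_top_iff.2 (inferInstance : (⊤ : Subgroup G).Normal)]) (normalizer_le_jOf _)

theorem thompson_not_le (hPt : PtHyp p T M) (hN : Subgroup.normalizer (jOf p (T : Subgroup G) : Set G) ≤ M) :
    ¬ thompsonSubgroup p G ≤ M := by
  intro hJ
  haveI hJn : (thompsonSubgroup p G).Normal := thompson_normal
  have h1 := Cfsg.Agent.Lib.LocalStruct.PClosed.frattini_inf T (thompsonSubgroup p G)
  rw [thompsonSubgroup_eq] at hJ h1
  have h2 : jOf p (T : Subgroup G) ≤ (T : Subgroup G) ⊓ jOf p ⊤ := le_inf (jOf_le _ _) (jOf_le_top T)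
  have h3 : jOf p ((T : Subgroup G) ⊓ jOf p ⊤) = jOf p (T : Subgroup G) := jOf_eq_of_le inf_le_left h2
  have h4 : Subgroup.normalizer (((T : Subgroup G) ⊓ jOf p ⊤ : Subgroup G) : Set G) ≤ M :=
    (normalizer_le_jOf (p := p) _).trans (by rw [h3]; exact hN)
  apply hPt.hM.1
  rw [eq_top_iff, ← h1]
  exact sup_le h4 hJ

section offender

variable {V : Subgroup G} [hn : V.Normal] [hc : IsMulCommutative V]

/-- The offender bound for an elementary abelian subgroup of largest order. -/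
theorem offender_bound (hexp : ∀ v ∈ V, v ^ p = 1) {A : Subgroup G} (hA : A ∈ maxElementaryAbelianSubgroups p G) :
    Nat.card (MV V) ≤ jv (MV V) (A.map (fQ V)) := by
  classical
  have hVea : IsAbExp p V := ⟨hc, hexp⟩
  set C := Subgroup.centralizer (V : Set G) with hC
  set X := A ⊓ C with hX
  have hXea : IsAbExp p X := by
    have h1 : IsAbExp p A := hA.1
    exact h1.mono inf_le_left
  have hDea : IsAbExp p (X ⊔ V) := hXea.sup hVea (fun a ha b hb =>
    (Subgroup.mem_centralizer_iff.1 ha.2 b hb).symm)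
  have hD := hA.2 (X ⊔ V) hDea
  have hVle : V ≤ X ⊔ V := le_sup_right
  have h1 : Nat.card V * V.relIndex X = Nat.card ↥(X ⊔ V) := by
    rw [← Subgroup.relIndex_sup_right X V]
    have := (V.subgroupOf (X ⊔ V)).card_mul_index
    rw [card_subgroupOf hVle] at this
    exact this
  set z := Nat.card (V.subgroupOf X) with hz
  have h2 : z * V.relIndex X = Nat.card X := (V.subgroupOf X).card_mul_index
  -- `A / X` is the image
  have h3 : Nat.card X * Nat.card (A.map (fQ V)) = Nat.card A := by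
    let g : ↥A →* G ⧸ C := (fQ V).comp A.subtype
    have hg1 := g.ker.card_mul_index
    rw [Subgroup.index_ker] at hg1
    have hr : g.range = A.map (fQ V) := by
      rw [MonoidHom.range_comp, Subgroup.range_subtype]
    rw [hr] at hg1
    have hk : Nat.card g.ker = Nat.card X := by
      refine Nat.card_congr
        { toFun := fun x => ⟨x.1.1, x.1.2, (QuotientGroup.eq_one_iff _).1 x.2⟩
          invFun := fun x => ⟨⟨x.1, x.2.1⟩, (QuotientGroup.eq_one_iff _).2 x.2.2⟩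
          left_inv := fun x => rfl
          right_inv := fun x => rfl }
    rw [hk] at hg1
    exact hg1
  have h4 : z ≤ Nat.card (fixS (MV V) (A.map (fQ V))) := by
    let φ : ↥(V.subgroupOf X) → ↥(fixS (MV V) (A.map (fQ V))) := fun x =>
      ⟨MV.mk (Subgroup.mem_subgroupOf.1 x.2), by
        rintro _ ⟨a, ha, rfl⟩
        apply MV.ext
        rw [val_smulQ, MV.val_mk]
        have h5 : IsAbExp p A := hA.1
        rw [h5.comm ha ((x.1).2.1)]
        group⟩
    refine Nat.card_le_card_of_injective φ ?_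
    intro x y hxy
    have h5 := congrArg (fun w => (w : MV V).val) (congrArg Subtype.val hxy)
    exact Subtype.ext (Subtype.ext h5)
  have hrpos : 0 < V.relIndex X := Nat.pos_of_ne_zero Subgroup.index_ne_zero_of_finite
  have h6 : Nat.card V * V.relIndex X ≤ (Nat.card (A.map (fQ V)) * z) * V.relIndex X := by
    calc Nat.card V * V.relIndex X = Nat.card ↥(X ⊔ V) := h1
      _ ≤ Nat.card A := hD
      _ = Nat.card X * Nat.card (A.map (fQ V)) := h3.symm
      _ = (Nat.card (A.map (fQ V)) * z) * V.relIndex X := by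
        rw [← h2]
        ring
  have h7 := Nat.le_of_mul_le_mul_right h6 hrpos
  rw [MV.card_eq]
  unfold jv
  exact h7.trans (Nat.mul_le_mul_left _ h4)

theorem map_isEA {A : Subgroup G} (h : IsEA p A) (f : G →* (G ⧸ Subgroup.centralizer (V : Set G))) : IsEA p (A.map f) := by
  constructor
  · rintro _ ⟨a, ha, rfl⟩ _ ⟨b, hb, rfl⟩
    rw [← map_mul, ← map_mul, h.comm a ha b hb]
  · rintro _ ⟨a, ha, rfl⟩
    rw [← map_pow, h.exp a ha, map_one]

end offender

theorem css_main (V : Subgroup G) [hn : V.Normal] [hc : IsMulCommutative V] (hexp : ∀ v ∈ V, v ^ p = 1)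
    (T : Sylow p G) (M : Subgroup G) (hPt : PtHyp p T M)
    (hCM : Subgroup.centralizer (V : Set G) ≤ M) (hQC : pCore p G ≤ Subgroup.centralizer (V : Set G))
    (hCT : Subgroup.centralizer ((V ⊓ Subgroup.centralizer ((T : Subgroup G) : Set G) : Subgroup G) : Set G) ≤ M)
    (hJ : ¬ thompsonSubgroup p G ≤ M) : CssConcl p G V (T : Subgroup G) := by
  classical
  set C := Subgroup.centralizer (V : Set G) with hC
  let f : G →* G ⧸ C := fQ V
  have hsf : Function.Surjective f := surj_fQ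
  have hker : ∀ x, f x = 1 ↔ x ∈ C := fun x => QuotientGroup.eq_one_iff _
  have hW : ∀ w : MV V, p • w = 0 := by
    intro w
    apply MV.ext
    rw [MV.val_nsmul, hexp _ w.val_mem]
    rfl
  have hfaith : ∀ g : G ⧸ C, (∀ w : MV V, g • w = w) → g = 1 := by
    intro g hg
    obtain ⟨g, rfl⟩ := hsf g
    rw [hker, hC, Subgroup.mem_centralizer_iff]
    intro v hv
    have h2 := congrArg MV.val (hg (MV.mk hv))
    rw [val_smulQ, MV.val_mk] at h2
    exact (mul_inv_eq_iff_eq_mul.1 h2).symm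
  let Tq : Sylow p (G ⧸ C) := T.mapSurjective hsf
  have hTq : (Tq : Subgroup (G ⧸ C)) = (T : Subgroup G).map f := rfl
  have hPtq : PtHyp p Tq (M.map f) := ptHyp_q hPt hCM
  have hOp : pCore p (G ⧸ C) = ⊥ := pCore_q hPt hCM hQC
  have hCT' : ∀ g : G ⧸ C, (∀ u ∈ fixS (MV V) (Tq : Subgroup (G ⧸ C)), g • u = u) → g ∈ M.map f := by
    intro g hg
    obtain ⟨g, rfl⟩ := hsf g
    refine ⟨g, hCT ?_, rfl⟩
    rw [Subgroup.mem_centralizer_iff]
    rintro x ⟨hx₁, hx₂⟩
    have h1 : (MV.mk hx₁ : MV V) ∈ fixS (MV V) (Tq : Subgroup (G ⧸ C)) := by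
      rw [hTq]
      rintro _ ⟨t, ht, rfl⟩
      apply MV.ext
      rw [val_smulQ, MV.val_mk, (Subgroup.mem_centralizer_iff.1 hx₂) t ht]
      group
    have h2 := congrArg MV.val (hg _ h1)
    rw [val_smulQ, MV.val_mk] at h2
    exact (mul_inv_eq_iff_eq_mul.1 h2).symm
  have hEA : ∀ A ∈ maxElementaryAbelianSubgroups p G, IsEA p A := fun A hA =>
    have h1 : IsAbExp p A := hA.1
    ⟨fun a ha b hb => h1.comm ha hb, fun a ha => h1.pow ha⟩
  have hcj : ∀ A ∈ maxElementaryAbelianSubgroups p G, ∀ k : G, cj k A ∈ maxElementaryAbelianSubgroups p G := by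
    intro A hA k
    have h1 : IsAbExp p A := hA.1
    refine ⟨h1.map _, fun B hB => ?_⟩
    rw [card_cj]
    exact hA.2 B hB
  -- the offender
  have hA₀ : ∃ A ∈ maxElementaryAbelianSubgroups p G, ¬ A ≤ C := by
    by_contra hcon
    push_neg at hcon
    exact hJ (sSup_le fun A hA => (hcon A hA).trans hCM)
  obtain ⟨A₀, hA₀m, hA₀C⟩ := hA₀
  obtain ⟨k₀, hk₀⟩ := exists_conj_le_sylow (hEA A₀ hA₀m).isPGroup T
  set A₁ := cj k₀ A₀ with hA₁
  have hA₁m : A₁ ∈ maxElementaryAbelianSubgroups p G := hcj _ hA₀m _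
  have hA₁C : ¬ A₁ ≤ C := by
    intro h
    apply hA₀C
    have h1 := cj_le_cj (g := k₀⁻¹).2 h
    rwa [hA₁, cj_inv_cj, cj_eq_of_normal (inferInstance : C.Normal)] at h1
  have hBne : A₁.map f ≠ ⊥ := by
    intro h
    apply hA₁C
    intro a ha
    rw [← hker]
    have h1 : f a ∈ A₁.map f := ⟨a, ha, rfl⟩
    rwa [h, Subgroup.mem_bot] at h1
  have hBe : IsEA p (A₁.map f) := map_isEA (hEA _ hA₁m) f
  have hBoff : Nat.card (MV V) ≤ jv (MV V) (A₁.map f) := offender_bound hexp hA₁m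
  have hBT : A₁.map f ≤ (Tq : Subgroup (G ⧸ C)) := Subgroup.map_mono hk₀
  have hoff' : ∃ A₀ : Subgroup (G ⧸ C), IsEA p A₀ ∧ A₀ ≠ ⊥ ∧ ∀ B ≤ A₀, jv (MV V) B ≤ jv (MV V) A₀ := by
    by_cases hcc : ∀ B ≤ A₁.map f, jv (MV V) B ≤ jv (MV V) (A₁.map f)
    · exact ⟨_, hBe, hBne, hcc⟩
    · push_neg at hcc
      obtain ⟨B, hB, hlt⟩ := hcc
      obtain ⟨B₁, hB₁, hmax⟩ := Set.exists_max_image {B : Subgroup (G ⧸ C) | B ≤ A₁.map f}
        (fun B => jv (MV V) B) (Set.toFinite _) ⟨A₁.map f, le_refl (A₁.map f)⟩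
      have h1 := hmax B hB
      refine ⟨B₁, ea_mono hBe hB₁, ?_, fun C hC => hmax C (hC.trans hB₁)⟩
      rintro rfl
      rw [jv_bot] at h1
      omega
  obtain ⟨A', H⟩ := exists_main hPtq hW hfaith hCT' hOp hoff'
  obtain ⟨r, E, hB, hX⟩ := main_blocks_plus H
  have hgood : ∀ i, GoodBlock p (E i) (MV V) := fun i => good_of_kind (hB.kind i)
  have hS : IsPGroup p (Tq : Subgroup (G ⧸ C)) := Tq.isPGroup'
  -- `K` is normal
  have hKn : (⨆ i, E i).Normal := by
    rw [← Subgroup.normalizer_eq_top_iff, eq_top_iff, ← hB.top]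
    refine sup_le (Subgroup.le_normalizer) ?_
    intro t ht
    rw [mem_normalizer_iff_cj]
    apply Subgroup.eq_of_le_of_card_ge
    · unfold cj
      rw [Subgroup.map_iSup]
      refine iSup_le fun i => ?_
      obtain ⟨j, hj⟩ := hX.perm t ht i
      have h1 : (E i).map (MulAut.conj t).toMonoidHom = E j := hj
      rw [h1]
      exact le_iSup E j
    · rw [card_cj]
  -- all the images lie in `K`
  have hAK : ∀ A ∈ maxElementaryAbelianSubgroups p G, A.map f ≤ ⨆ i, E i := by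
    intro A hA
    obtain ⟨k, hk⟩ := exists_conj_le_sylow (hEA A hA).isPGroup T
    have hm := hcj A hA k
    have h1 := (offender_main hS hB hX.perm hgood hOp hW hfaith (B := (cj k A).map f) (Subgroup.map_mono hk)
      (map_isEA (hEA _ hm) f) (offender_bound hexp hm)).2.1
    rintro _ ⟨a, ha, rfl⟩
    have h2 : f (k * a * k⁻¹) ∈ ⨆ i, E i := h1 ⟨_, ⟨a, ha, rfl⟩, rfl⟩
    have h3 := hKn.conj_mem _ h2 (f k)⁻¹
    have h4 : (f k)⁻¹ * f (k * a * k⁻¹) * ((f k)⁻¹)⁻¹ = f a := by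
      simp only [map_mul, map_inv]
      group
    rwa [h4] at h3
  have hJn : (thompsonSubgroup p G).Normal := thompson_normal
  have hJq : ((thompsonSubgroup p G).map f).Normal := hJn.map f hsf
  have hJK : (thompsonSubgroup p G).map f ≤ ⨆ i, E i := by
    rw [Subgroup.map_le_iff_le_comap]
    exact sSup_le fun A hA => Subgroup.map_le_iff_le_comap.1 (hAK A hA)
  have hKJ : (⨆ i, E i) ≤ (thompsonSubgroup p G).map f :=
    blocks_le_normal hS hB hX.perm hgood hOp hW hfaith hBT hBe hBoff hBne hJq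
      (Subgroup.map_mono (le_sSup hA₁m))
  have hKeq : (⨆ i, E i) = (thompsonSubgroup p G).map f := le_antisymm hKJ hJK
  have hCE : ∀ i, C ≤ (E i).comap f := by
    intro i c hc
    show f c ∈ E i
    rw [(hker c).2 hc]
    exact Subgroup.one_mem _
  obtain ⟨i₀⟩ := hB.ne
  have hsup : (⨆ i, (E i).comap f) = (⨆ i, E i).comap f := by
    apply le_antisymm
    · exact iSup_le fun i => Subgroup.comap_mono (le_iSup E i)
    · intro x hx
      have h1 : f x ∈ (⨆ i, (E i).comap f).map f := by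
        rw [Subgroup.map_iSup]
        have h2 : ∀ i, ((E i).comap f).map f = E i := fun i =>
          Subgroup.map_comap_eq_self_of_surjective hsf (E i)
        simp only [h2]
        exact hx
      obtain ⟨y, hy, hye⟩ := h1
      have h3 : y⁻¹ * x ∈ C := by
        rw [← hker, map_mul, map_inv, hye, inv_mul_cancel]
      have h4 : x = y * (y⁻¹ * x) := by group
      rw [h4]
      exact Subgroup.mul_mem _ hy (Subgroup.mem_iSup_of_mem i₀ (hCE i₀ h3))
  refine ⟨r, fun i => (E i).comap f, hCE, ?_, ?_, ?_, ?_, ?_, ?_, ?_, ?_⟩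
  · -- `J T C = G`
    by_contra hne
    have hT' : (T : Subgroup G) ≤ thompsonSubgroup p G ⊔ (T : Subgroup G) ⊔ C :=
      (le_sup_right : (T : Subgroup G) ≤ thompsonSubgroup p G ⊔ (T : Subgroup G)).trans le_sup_left
    have h1 := hPt.le_M hT' hne
    exact hJ ((le_sup_left.trans le_sup_left).trans h1)
  · -- `⨆ E = J C`
    rw [hsup, hKeq, Subgroup.comap_map_eq]
    congr 1
    exact ker_fQ
  · intro i j hij
    rw [Subgroup.commutator_le]
    intro a ha b hb
    rw [← hker, commutatorElement_def]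
    have h1 := hB.comm i j hij (f a) ha (f b) hb
    simp only [map_mul, map_inv]
    rw [h1]
    group
  · intro i x hx
    rw [← hker]
    have h1 := hB.inf_eq_bot hfaith i
    have h2 : f x ∈ E i ⊓ ⨆ j ∈ {j | j ≠ i}, E j := by
      refine ⟨hx.1, ?_⟩
      have h3 : (⨆ j ∈ {j | j ≠ i}, (E j).comap f) ≤ (⨆ j ∈ {j | j ≠ i}, E j).comap f :=
        iSup₂_le fun j hj => Subgroup.comap_mono (le_iSup₂_of_le j hj le_rfl)
      exact h3 hx.2
    rwa [h1, Subgroup.mem_bot] at h2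
  · intro i j
    obtain ⟨t, ht, he⟩ := hB.trans i j
    obtain ⟨t₀, ht₀, rfl⟩ := ht
    refine ⟨t₀, ht₀, ?_⟩
    show cj t₀ ((E i).comap f) = (E j).comap f
    rw [← he]
    ext x
    rw [mem_cj, Subgroup.mem_comap, Subgroup.mem_comap, mem_cj]
    have h1 : f (t₀⁻¹ * x * t₀) = (f t₀)⁻¹ * f x * f t₀ := by
      rw [map_mul, map_mul, map_inv]
    rw [h1]
  · have h1 := congrArg toG hB.sup_split
    rw [toG_sup, toG_iSup, toG_top, toG_fixS_q] at h1
    have h2 : (⨆ i, toG (comS (MV V) (E i))) = ⨆ i, ⁅V, (E i).comap f⁆ :=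
      iSup_congr fun i => toG_comS_q (E i)
    rw [h2] at h1
    rw [hsup]
    exact h1
  · intro i j hij
    rw [Subgroup.commutator_eq_bot_iff_le_centralizer, ← toG_comS_q]
    have h1 := comS_le (hB.quad j i hij.symm)
    have h2 := toG_mono h1
    rw [toG_fixS_q] at h2
    exact h2.trans inf_le_right
  · intro i
    obtain ⟨n, hn', hk⟩ := hB.kind i
    refine ⟨n, hn', ?_⟩
    rcases hk with hk | ⟨h2, hk⟩
    · exact Or.inl (sl2_transfer_q hk (hB.split i))
    · exact Or.inr ⟨h2, perm_transfer_q hk (hB.split i)⟩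

end Cfsg.Agent.Lib.BHS.CssMain
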